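import Cfsg.Agent.Lib.Linear.ShortPres.Alt.Glue
import Cfsg.Agent.Lib.Linear.ShortPres.SLN.Mat

/-!
# Even permutations moving few points
-/

set_option autoImplicit false

namespace Cfsg.Lib.Linear.ShortPres.SpN

open Equiv

variable {m : ℕ}

/-- Carrying two points to two given points. -/
theorem exists_perm_two (i0 i1 a b : Fin m) (h01 : i0 ≠ i1) (hab : a ≠ b) :
    ∃ π : Perm (Fin m), π i0 = a ∧ π i1 = b := by
  have hne : swap i0 a i1 ≠ a := fun e => h01 ((swap i0 a).injective (e.trans (swap_apply_left i0 a).symm)).symm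
  refine ⟨swap (swap i0 a i1) b * swap i0 a, ?_, ?_⟩
  · rw [Perm.mul_apply, swap_apply_left]; exact swap_apply_of_ne_of_ne hne.symm hab
  · rw [Perm.mul_apply, swap_apply_left]

/-- Carrying one point to a given point by an even permutation. -/
theorem exists_one {i0 i1 i2 : Fin m} (h01 : i0 ≠ i1) (h02 : i0 ≠ i2) (h12 : i1 ≠ i2) (a : Fin m) :
    ∃ π : alternatingGroup (Fin m), π.1 i0 = a := by
  obtain ⟨π, hπ⟩ := SLN.exists_even (swap i0 a) h12
  refine ⟨π, ?_⟩
  rcases hπ with h | h <;> rw [h]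
  · exact swap_apply_left _ _
  · rw [Perm.mul_apply, swap_apply_of_ne_of_ne h01 h02, swap_apply_left]

/-- Carrying an unordered pair to another one by an even permutation. -/
theorem exists_pair {i0 i1 : Fin m} (h01 : i0 ≠ i1) {a b : Fin m} (hab : a ≠ b) :
    ∃ π : alternatingGroup (Fin m), (π.1 i0 = a ∧ π.1 i1 = b) ∨ (π.1 i0 = b ∧ π.1 i1 = a) := by
  obtain ⟨π₁, e0, e1⟩ := exists_perm_two i0 i1 a b h01 hab
  obtain ⟨π, hπ⟩ := SLN.exists_even π₁ h01
  refine ⟨π, ?_⟩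
  rcases hπ with h | h <;> rw [h]
  · exact Or.inl ⟨e0, e1⟩
  · exact Or.inr ⟨by simp [e1], by simp [e0]⟩

/-- Carrying three points to three given points, or to the same points in reversed order. -/
theorem exists_triple {i0 i1 i2 : Fin m} (h01 : i0 ≠ i1) (h02 : i0 ≠ i2) (h12 : i1 ≠ i2) {a b c : Fin m}
    (hab : a ≠ b) (hac : a ≠ c) (hbc : b ≠ c) :
    ∃ π : alternatingGroup (Fin m),
      (π.1 i0 = a ∧ π.1 i1 = b ∧ π.1 i2 = c) ∨ (π.1 i0 = c ∧ π.1 i1 = b ∧ π.1 i2 = a) := by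
  obtain ⟨π₁, e0, e1⟩ := exists_perm_two i0 i1 a b h01 hab
  set π₂ := swap (π₁ i2) c * π₁ with hπ₂
  have f2 : π₂ i2 = c := by simp [hπ₂]
  have f0 : π₂ i0 = a := by
    rw [hπ₂, Perm.mul_apply, e0]
    exact swap_apply_of_ne_of_ne (by rw [← e0]; exact π₁.injective.ne h02) hac
  have f1 : π₂ i1 = b := by
    rw [hπ₂, Perm.mul_apply, e1]
    exact swap_apply_of_ne_of_ne (by rw [← e1]; exact π₁.injective.ne h12) hbc
  obtain ⟨π, hπ⟩ := SLN.exists_even π₂ h02
  refine ⟨π, ?_⟩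
  rcases hπ with h | h <;> rw [h]
  · exact Or.inl ⟨f0, f1, f2⟩
  · refine Or.inr ⟨by simp [f2], ?_, by simp [f0]⟩
    rw [Perm.mul_apply, swap_apply_of_ne_of_ne h01.symm h12, f1]

/-- The stabiliser of a point is generated by two elements. -/
theorem point_stab (i0 : Fin m) : ∃ s : Fin 2 → alternatingGroup (Fin m), (∀ k, (s k).1 i0 = i0) ∧
    ∀ π : alternatingGroup (Fin m), π.1 i0 = i0 → π ∈ Subgroup.closure (Set.range s) := by
  classical
  let e : {i : Fin m // i ≠ i0} ↪ Fin m := Function.Embedding.subtype _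
  obtain ⟨a, b, hab⟩ := Alt.two_gen {i : Fin m // i ≠ i0}
  have hne : i0 ∉ Set.range e := fun ⟨x, hx⟩ => x.2 hx
  refine ⟨fun k => Alt.extA e (![a, b] k), fun k => Alt.extA_apply_of_notMem e _ hne, fun π hπ => ?_⟩
  obtain ⟨u, rfl⟩ := SLN.exists_extA e π (fun x hx => by
    have : x = i0 := by_contra fun h => hx ⟨⟨x, h⟩, rfl⟩
    rw [this, hπ])
  have h : Alt.extA e u ∈ (⊤ : Subgroup _).map (Alt.extA e) := ⟨u, trivial, rfl⟩
  rw [← hab, MonoidHom.map_closure] at h
  refine Subgroup.closure_mono ?_ h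
  rintro _ ⟨x, hx, rfl⟩
  rcases hx with rfl | rfl
  · exact ⟨0, rfl⟩
  · exact ⟨1, rfl⟩

/-- The setwise stabiliser of a pair is generated by three elements. -/
theorem pair_stab {i0 i1 : Fin m} (h01 : i0 ≠ i1) : ∃ s : Fin 3 → alternatingGroup (Fin m),
    (∀ k, ((s k).1 i0 = i0 ∧ (s k).1 i1 = i1) ∨ ((s k).1 i0 = i1 ∧ (s k).1 i1 = i0)) ∧
    ∀ π : alternatingGroup (Fin m), ((π.1 i0 = i0 ∧ π.1 i1 = i1) ∨ (π.1 i0 = i1 ∧ π.1 i1 = i0)) →
      π ∈ Subgroup.closure (Set.range s) := by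
  classical
  let e : {i : Fin m // i ≠ i0 ∧ i ≠ i1} ↪ Fin m := Function.Embedding.subtype _
  obtain ⟨a, b, hab⟩ := Alt.two_gen {i : Fin m // i ≠ i0 ∧ i ≠ i1}
  obtain ⟨u, hu, hu'⟩ : ∃ u : alternatingGroup (Fin m),
      ((u.1 i0 = i0 ∧ u.1 i1 = i1) ∨ (u.1 i0 = i1 ∧ u.1 i1 = i0)) ∧
      ∀ π : alternatingGroup (Fin m), π.1 i0 = i1 → π.1 i1 = i0 → u.1 i0 = i1 ∧ u.1 i1 = i0 := by
    by_cases h : ∃ π : alternatingGroup (Fin m), π.1 i0 = i1 ∧ π.1 i1 = i0
    · obtain ⟨u, hu⟩ := h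
      exact ⟨u, Or.inr hu, fun _ _ _ => hu⟩
    · exact ⟨1, Or.inl ⟨rfl, rfl⟩, fun π h1 h2 => absurd ⟨π, h1, h2⟩ h⟩
  have hn0 : i0 ∉ Set.range e := fun ⟨x, hx⟩ => x.2.1 hx
  have hn1 : i1 ∉ Set.range e := fun ⟨x, hx⟩ => x.2.2 hx
  refine ⟨![Alt.extA e a, Alt.extA e b, u], fun k => ?_, fun π hπ => ?_⟩
  · fin_cases k
    · exact Or.inl ⟨Alt.extA_apply_of_notMem e a hn0, Alt.extA_apply_of_notMem e a hn1⟩
    · exact Or.inl ⟨Alt.extA_apply_of_notMem e b hn0, Alt.extA_apply_of_notMem e b hn1⟩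
    · exact hu
  have hfix : ∀ π : alternatingGroup (Fin m), π.1 i0 = i0 → π.1 i1 = i1 →
      π ∈ Subgroup.closure (Set.range ![Alt.extA e a, Alt.extA e b, u]) := by
    intro π h0 h1
    obtain ⟨v, rfl⟩ := SLN.exists_extA e π (fun x hx => by
      by_cases h : x = i0
      · rw [h, h0]
      · have : x = i1 := by_contra fun h' => hx ⟨⟨x, h, h'⟩, rfl⟩
        rw [this, h1])
    have h : Alt.extA e v ∈ (⊤ : Subgroup _).map (Alt.extA e) := ⟨v, trivial, rfl⟩
    rw [← hab, MonoidHom.map_closure] at h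
    refine Subgroup.closure_mono ?_ h
    rintro _ ⟨x, hx, rfl⟩
    rcases hx with rfl | rfl
    · exact ⟨0, rfl⟩
    · exact ⟨1, rfl⟩
  rcases hπ with ⟨h0, h1⟩ | ⟨h0, h1⟩
  · exact hfix π h0 h1
  · obtain ⟨k0, k1⟩ := hu' π h0 h1
    have hm : u ∈ Subgroup.closure (Set.range ![Alt.extA e a, Alt.extA e b, u]) :=
      Subgroup.subset_closure ⟨2, rfl⟩
    have h := mul_mem hm (hfix (u⁻¹ * π)
      (by rw [Subgroup.coe_mul, Perm.mul_apply, h0, ← k0]; exact Perm.inv_eq_iff_eq.2 rfl)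
      (by rw [Subgroup.coe_mul, Perm.mul_apply, h1, ← k1]; exact Perm.inv_eq_iff_eq.2 rfl))
    rwa [mul_inv_cancel_left] at h

/-- A normal subgroup containing a three-cycle is the whole group. -/
theorem eq_top_of_three {N : Subgroup (alternatingGroup (Fin m))} [hN : N.Normal] {c : alternatingGroup (Fin m)}
    (hc : Perm.IsThreeCycle c.1) (hcN : c ∈ N) : N = ⊤ := by
  classical
  have h3 : ∀ g : alternatingGroup (Fin m), Perm.IsThreeCycle g.1 → g ∈ N := by
    intro g hg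
    have hcg : IsConj c.1 g.1 := Perm.isConj_iff_cycleType_eq.2 (hc.trans hg.symm)
    obtain ⟨σ, hσ⟩ := isConj_iff.1 hcg
    rcases Int.units_eq_one_or (Perm.sign σ) with h | h
    · have := hN.conj_mem c hcN ⟨σ, Perm.mem_alternatingGroup.2 h⟩
      rwa [show (⟨σ, Perm.mem_alternatingGroup.2 h⟩ * c * ⟨σ, Perm.mem_alternatingGroup.2 h⟩⁻¹ :
        alternatingGroup (Fin m)) = g from Subtype.ext hσ] at this
    · obtain ⟨τ, hτ, hτc⟩ : ∃ τ : Perm (Fin m), Perm.sign τ = -1 ∧ τ * c.1⁻¹ * τ⁻¹ = c.1 := by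
        obtain ⟨x, hx⟩ : ∃ x, c.1 x ≠ x := by
          by_contra hno
          push Not at hno
          have : c.1 = 1 := Equiv.ext hno
          exact hc.isCycle.ne_one this
        obtain ⟨τ₀, hτ₀⟩ := isConj_iff.1 (Perm.isConj_iff_cycleType_eq.2 (hc.inv.trans hc.symm))
        rcases Int.units_eq_one_or (Perm.sign τ₀) with h' | h'
        swap
        · exact ⟨τ₀, h', hτ₀⟩
        refine ⟨swap (c.1 x) (c.1 (c.1 x)), Perm.sign_swap ?_, ?_⟩
        · exact fun e => hx (c.1.injective e.symm)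
        have hc3 : ∀ y, c.1 (c.1 (c.1 y)) = y := fun y => by
          have := congrArg (fun p : Perm (Fin m) => p y) (hc.orderOf ▸ pow_orderOf_eq_one c.1)
          simpa [pow_succ, Perm.mul_apply] using this
        have hx1 : c.1 x ≠ c.1 (c.1 x) := fun e => hx (c.1.injective e.symm)
        have hx2 : x ≠ c.1 (c.1 x) := fun e => hx (by conv_lhs => rw [e, hc3])
        have hs : c.1.support = {x, c.1 x, c.1 (c.1 x)} := by
          refine (Finset.eq_of_subset_of_card_le ?_ ?_).symm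
          · intro y hy
            simp only [Finset.mem_insert, Finset.mem_singleton] at hy
            rw [Perm.mem_support]
            rcases hy with rfl | rfl | rfl
            · exact hx
            · exact fun e => hx (c.1.injective e)
            · rw [hc3]; exact hx2
          · rw [hc.card_support, Finset.card_insert_of_notMem (by simp [Ne.symm hx, hx2]),
              Finset.card_pair hx1]
        refine Equiv.ext fun y => ?_
        rw [swap_inv, Perm.mul_apply, Perm.mul_apply]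
        have hi : ∀ z, c.1⁻¹ z = c.1 (c.1 z) := fun z => by rw [Perm.inv_eq_iff_eq, hc3]
        rw [hi]
        by_cases hy : y ∈ c.1.support
        · rw [hs] at hy
          simp only [Finset.mem_insert, Finset.mem_singleton] at hy
          rcases hy with rfl | rfl | rfl <;>
            simp [swap_apply_def, hc3, hx, hx1, hx2, Ne.symm hx, Ne.symm hx1, Ne.symm hx2]
        · have hfix : c.1 y = y := Perm.notMem_support.1 hy
          rw [hs] at hy
          simp only [Finset.mem_insert, Finset.mem_singleton, not_or] at hy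
          simp [swap_apply_of_ne_of_ne hy.2.1 hy.2.2, hfix]
      have hs : Perm.sign (σ * τ) = 1 := by rw [Perm.sign_mul, h, hτ]; rfl
      have := hN.conj_mem c⁻¹ (inv_mem hcN) ⟨σ * τ, Perm.mem_alternatingGroup.2 hs⟩
      rwa [show (⟨σ * τ, Perm.mem_alternatingGroup.2 hs⟩ * c⁻¹ * ⟨σ * τ, Perm.mem_alternatingGroup.2 hs⟩⁻¹ :
        alternatingGroup (Fin m)) = g from Subtype.ext (by
          show σ * τ * c.1⁻¹ * (σ * τ)⁻¹ = g.1
          rw [mul_inv_rev, ← hσ]
          conv_rhs => rw [← hτc]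
          group)] at this
  refine eq_top_iff.2 fun g _ => ?_
  have hg : (g.1 : Perm (Fin m)) ∈ N.map (alternatingGroup (Fin m)).subtype := by
    refine (?_ : Subgroup.closure {σ : Perm (Fin m) | Perm.IsThreeCycle σ} ≤ _)
      (by rw [Perm.closure_three_cycles_eq_alternating]; exact g.2)
    rw [Subgroup.closure_le]
    exact fun σ hσ => ⟨⟨σ, hσ.mem_alternatingGroup⟩, h3 _ hσ, rfl⟩
  obtain ⟨g', hg', e⟩ := hg
  rwa [Subtype.ext e] at hg'

end Cfsg.Lib.Linear.ShortPres.SpN
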