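import Cfsg.Agent.Lib.Linear.ShortPres.SpN.Model
import Cfsg.Agent.Lib.Recog.SpAmalgam.Main

/-!
# The relations give the amalgam
-/

set_option autoImplicit false
set_option linter.unusedSectionVars false

namespace Cfsg.Lib.Linear.ShortPres.SpN

open Module
open scoped MatrixGroups
open Cfsg.Lib.Linear.Symp Cfsg.Lib.Recog.SpAmalgam

theorem commute_pair {P R : Type*} [Group P] [Group R] {x y : P × R} (h1 : Commute x.1 y.1)
    (h2 : Commute x.2 y.2) : Commute x y := Prod.ext h1 h2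

/-- A join of commuting injective subgroups agreeing on the common part. -/
theorem inj_sup {H G : Type*} [Group H] [Group G] {L M : Subgroup (H × G)}
    (hc : ∀ x ∈ L, ∀ y ∈ M, Commute x y) (hL : Inj L) (hM : Inj M)
    (h : ∀ x ∈ L, ∀ y ∈ M, x.2 = y.2 → x = y) : Inj (L ⊔ M) := by
  let W : Subgroup (H × G) :=
    { carrier := {z | ∃ x ∈ L, ∃ y ∈ M, z = x * y}
      one_mem' := ⟨1, one_mem _, 1, one_mem _, (one_mul 1).symm⟩
      mul_mem' := by
        rintro _ _ ⟨x, hx, y, hy, rfl⟩ ⟨x', hx', y', hy', rfl⟩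
        exact ⟨x * x', mul_mem hx hx', y * y', mul_mem hy hy', (hc x' hx' y hy).symm.mul_mul_mul_comm _ _⟩
      inv_mem' := by
        rintro _ ⟨x, hx, y, hy, rfl⟩
        refine ⟨x⁻¹, inv_mem hx, y⁻¹, inv_mem hy, ?_⟩
        rw [mul_inv_rev]
        exact ((hc x hx y hy).inv_inv).eq.symm }
  have hle : L ⊔ M ≤ W := sup_le (fun x hx => ⟨x, hx, 1, one_mem _, (mul_one x).symm⟩)
    (fun y hy => ⟨1, one_mem _, y, hy, (one_mul y).symm⟩)
  intro z hz hz2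
  obtain ⟨x, hx, y, hy, rfl⟩ := hle hz
  have : x = y⁻¹ := h x hx y⁻¹ (inv_mem hy) (by
    rw [Prod.snd_inv]; exact eq_inv_of_mul_eq_one_left (by simpa using hz2))
  rw [this, inv_mul_cancel]

variable {F : Type*} [Field F] {m : ℕ} {Q : Idx m} {ζ : Fˣ}

namespace Sys

variable {P R : Type*} [Group P] [Group R]

/-- The product system. -/
noncomputable def prod (T : Sys Q ζ P) (U : Sys Q ζ R) : Sys Q ζ (P × R) where
  hgen := T.hgen
  A := T.A.prod U.A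
  Bp := T.Bp.prod U.Bp
  y := (T.y, U.y)
  ypow := Prod.ext T.ypow U.ypow
  fixA π h g := commute_pair (T.fixA π h g) (U.fixA π h g)
  fixY π h := commute_pair (T.fixY π h) (U.fixY π h)
  comm01 g h := commute_pair (T.comm01 g h) (U.comm01 g h)
  tor r := commute_pair (T.tor r) (U.tor r)
  uni0 := commute_pair T.uni0 U.uni0
  uni1 := commute_pair T.uni1 U.uni1
  ys2 g := commute_pair (T.ys2 g) (U.ys2 g)
  yy1 := commute_pair T.yy1 U.yy1
  yy2 h := commute_pair (T.yy2 h) (U.yy2 h)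
  r5a s h := Prod.ext (T.r5a s h) (U.r5a s h)
  r5b s h := Prod.ext (T.r5b s h) (U.r5b s h)

theorem prod_S (T : Sys Q ζ P) (U : Sys Q ζ R) (a : Fin m) (g : SL(2, F)) :
    (T.prod U).S a g = (T.S a g, U.S a g) := rfl

theorem prod_Y (T : Sys Q ζ P) (U : Sys Q ζ R) (a b : Fin m) :
    (T.prod U).Y a b = (T.Y a b, U.Y a b) := rfl

theorem prod_phi (T : Sys Q ζ P) (U : Sys Q ζ R) (a b : Fin m) (x z : F) :
    (T.prod U).phi a b x z = (T.phi a b x z, U.phi a b x z) := by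
  by_cases h : x = 0 ∧ z = 0
  · simp only [phi, if_pos h]; rfl
  · simp only [phi, if_neg h]; rfl

variable (T : Sys Q ζ P)

/-- The triangle relation at three points. -/
def Tri (a b c : Fin m) : Prop :=
  T.Y a b * ((T.phi c b 0 1 * T.phi b c 0 1) * T.Y a b * (T.phi c b 0 1 * T.phi b c 0 1)⁻¹) =
    T.phi b c 0 1 * T.Y a b * (T.phi b c 0 1)⁻¹

theorem prod_tri (U : Sys Q ζ R) {a b c : Fin m} (h1 : T.Tri a b c) (h2 : U.Tri a b c) :
    (T.prod U).Tri a b c := by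
  unfold Tri
  simp only [prod_phi, prod_Y]
  exact Prod.ext h1 h2

theorem phi_conj (π : alternatingGroup (Fin m)) {a b : Fin m} (hab : a ≠ b) (x z : F) :
    T.cB π (T.phi a b x z) = T.phi (π.1 a) (π.1 b) x z := by
  unfold phi
  split
  · exact map_one _
  · rw [map_mul, map_mul, map_inv, T.S_conj, T.Y_conj π hab]

theorem tri_of_marked (h1 : T.Tri Q.i0 Q.i1 Q.i2) (h2 : T.Tri Q.i2 Q.i1 Q.i0) {a b c : Fin m}
    (hab : a ≠ b) (hac : a ≠ c) (hbc : b ≠ c) : T.Tri a b c := by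
  obtain ⟨π, hπ⟩ := exists_triple Q.h01 Q.h02 Q.h12 hab hac hbc
  rcases hπ with ⟨e0, e1, e2⟩ | ⟨e0, e1, e2⟩
  · have h := congrArg (T.cB π) h1
    simp only [map_mul, map_inv, T.Y_conj π Q.h01, T.phi_conj π Q.h12.symm, T.phi_conj π Q.h12, e0, e1, e2] at h
    exact h
  · have h := congrArg (T.cB π) h2
    simp only [map_mul, map_inv, T.Y_conj π Q.h12.symm, T.phi_conj π Q.h01, T.phi_conj π Q.h01.symm, e0, e1, e2] at h
    exact h

variable [Fintype F]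

theorem commute_xs_line {a b : Fin m} (hab : a ≠ b) (j : Fin m) (c x : F) :
    Commute (T.S j (xs c)) (T.phi a b x 0) := by
  rcases eq_or_ne j a with rfl | hja
  · rw [T.phi_swap_line hab]; exact T.commute_xs_phi hab.symm c x 0
  rcases eq_or_ne j b with rfl | hjb
  · exact T.commute_xs_phi hab c x 0
  · exact T.commute_S_phi hab hja.symm hjb.symm _ x 0

theorem commute_xs_xs (i j : Fin m) (c d : F) : Commute (T.S i (xs c)) (T.S j (xs d)) := by
  rcases eq_or_ne i j with rfl | h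
  · show _ = _
    rw [← map_mul, ← map_mul, ← xs_add, ← xs_add, add_comm]
  · exact T.commute_SS h _ _

/-- The abelian group of a pair. -/
noncomputable def kHom {a b : Fin m} (hab : a ≠ b) : Multiplicative (F × F × F) →* P :=
  MonoidHom.mk' (fun u => T.S a (xs u.toAdd.1) * T.S b (xs u.toAdd.2.1) * T.phi a b u.toAdd.2.2 0) fun u w => by
    simp only [toAdd_mul, Prod.fst_add, Prod.snd_add, xs_add, map_mul, ← T.line_add hab]
    have c1 := (T.commute_xs_xs a b w.toAdd.1 u.toAdd.2.1).eq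
    have c2 := (T.commute_xs_line hab a w.toAdd.1 u.toAdd.2.2).eq
    have c3 := (T.commute_xs_line hab b w.toAdd.2.1 u.toAdd.2.2).eq
    simp only [mul_assoc]
    congr 1
    rw [← mul_assoc (T.S a (xs w.toAdd.1)), c1, mul_assoc]
    congr 1
    rw [← mul_assoc (T.S b (xs w.toAdd.2.1)) (T.phi a b u.toAdd.2.2 0), c3, mul_assoc,
      ← mul_assoc (T.S a (xs w.toAdd.1)), c2, mul_assoc]

theorem kHom_apply {a b : Fin m} (hab : a ≠ b) (c d t : F) :
    T.kHom hab (Multiplicative.ofAdd (c, d, t)) = T.S a (xs c) * T.S b (xs d) * T.phi a b t 0 := rfl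

open Classical in
/-- The subgroup of a consecutive pair. -/
noncomputable def kSub (i : Fin m) : Subgroup P :=
  if h : (i : ℕ) + 1 < m then
    (T.kHom (a := i) (b := ⟨i + 1, h⟩) (by simp [Fin.ext_iff])).range
  else ⊥

theorem mem_kSub {i j : Fin m} (h : (j : ℕ) = (i : ℕ) + 1) {x : P} :
    x ∈ T.kSub i ↔ ∃ c d t : F, x = T.S i (xs c) * T.S j (xs d) * T.phi i j t 0 := by
  have hi : (i : ℕ) + 1 < m := by have := j.2; omega
  obtain rfl : j = ⟨i + 1, hi⟩ := Fin.ext h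
  rw [kSub, dif_pos hi]
  constructor
  · rintro ⟨u, rfl⟩; exact ⟨_, _, _, rfl⟩
  · rintro ⟨c, d, t, rfl⟩; exact ⟨Multiplicative.ofAdd (c, d, t), rfl⟩

theorem S_xs_mem_kSub {i j : Fin m} (h : (j : ℕ) = (i : ℕ) + 1) (c : F) :
    T.S i (xs c) ∈ T.kSub i ∧ T.S j (xs c) ∈ T.kSub i :=
  ⟨(T.mem_kSub h).2 ⟨c, 0, 0, by simp [xs_zero, T.phi_zero]⟩,
    (T.mem_kSub h).2 ⟨0, c, 0, by simp [xs_zero, T.phi_zero]⟩⟩

theorem Y_mem_kSub {i j : Fin m} (h : (j : ℕ) = (i : ℕ) + 1) : T.Y i j ∈ T.kSub i :=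
  (T.mem_kSub h).2 ⟨0, 0, 1, by simp [xs_zero, T.phi_one (show i ≠ j from fun e => by subst e; omega)]⟩

/-- The subgroup around one end of a pair. -/
noncomputable def qSub {a b : Fin m} (hab : a ≠ b) : Subgroup P where
  carrier := {w | ∃ c x z, ∃ g, w = T.S b (xs c) * T.phi a b x z * T.S a g}
  one_mem' := ⟨0, 0, 0, 1, by simp [xs_zero, T.phi_zero]⟩
  mul_mem' := by
    rintro _ _ ⟨c, x, z, g, rfl⟩ ⟨c', x', z', g', rfl⟩
    refine ⟨c + c' + (x * (g.1 1 0 * x' + g.1 1 1 * z') - z * (g.1 0 0 * x' + g.1 0 1 * z')),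
      x + (g.1 0 0 * x' + g.1 0 1 * z'), z + (g.1 1 0 * x' + g.1 1 1 * z'), g * g', ?_⟩
    rw [xs_add, map_mul, mul_assoc (T.S b (xs (c + c'))), ← T.phi_add hab, ← T.phi_act hab g x' z', xs_add, map_mul,
      map_mul]
    have c1 := (T.commute_SS hab g (xs c')).eq
    have c2 := (T.commute_xs_phi hab c' x z).eq
    calc _ = T.S b (xs c) * T.phi a b x z * (T.S a g * T.S b (xs c')) * T.phi a b x' z' * T.S a g' := by group
      _ = T.S b (xs c) * (T.phi a b x z * T.S b (xs c')) * T.S a g * T.phi a b x' z' * T.S a g' := by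
          rw [c1]; group
      _ = _ := by rw [← c2]; group
  inv_mem' := by
    rintro _ ⟨c, x, z, g, rfl⟩
    refine ⟨-c, -((g⁻¹).1 0 0 * x + (g⁻¹).1 0 1 * z), -((g⁻¹).1 1 0 * x + (g⁻¹).1 1 1 * z), g⁻¹, ?_⟩
    have hn : (T.phi a b x z)⁻¹ = T.phi a b (-x) (-z) := inv_eq_of_mul_eq_one_right (by
      rw [T.phi_add hab, add_neg_cancel, add_neg_cancel, T.phi_zero]; ring_nf; simp [xs_zero])
    have e := T.phi_act hab g⁻¹ (-x) (-z)
    simp only [mul_neg, ← neg_add] at e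
    rw [← e, ← hn, xs_neg, map_inv, map_inv]
    have c1 := ((T.commute_SS hab g (xs c)).inv_inv).eq
    have c2 := ((T.commute_xs_phi hab c x z).inv_inv).eq
    calc (T.S b (xs c) * T.phi a b x z * T.S a g)⁻¹
        = (T.S a g)⁻¹ * ((T.phi a b x z)⁻¹ * (T.S b (xs c))⁻¹) := by group
      _ = (T.S a g)⁻¹ * (T.S b (xs c))⁻¹ * (T.phi a b x z)⁻¹ := by rw [← c2]; group
      _ = _ := by rw [c1]; group

theorem kSub_le_qSub {i j : Fin m} (h : (j : ℕ) = (i : ℕ) + 1) (hij : i ≠ j) :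
    T.kSub i ≤ T.qSub hij ∧ T.kSub i ≤ T.qSub hij.symm := by
  constructor <;> intro w hw <;> obtain ⟨c, d, t, rfl⟩ := (T.mem_kSub h).1 hw
  · refine ⟨d, t, 0, xs c, ?_⟩
    rw [mul_assoc (T.S j (xs d)), ← (T.commute_xs_line hij i c t).eq, ← mul_assoc, (T.commute_xs_xs j i d c).eq]
  · refine ⟨c, t, 0, xs d, ?_⟩
    rw [← T.phi_swap_line hij, mul_assoc, (T.commute_xs_line hij j d t).eq, ← mul_assoc]

theorem range_S_le_qSub {a b : Fin m} (hab : a ≠ b) : (T.S a).range ≤ T.qSub hab := by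
  rintro _ ⟨g, rfl⟩
  exact ⟨0, 0, 0, g, by simp [xs_zero, T.phi_zero]⟩

end Sys

variable {V : Type*} [AddCommGroup V] [Module F V] [FiniteDimensional F V] [Fintype F]
  {B : LinearMap.BilinForm F V} (Φ : Cfsg.Lib.Recog.SpAmalgam.Frame B m) (hA : B.IsAlt)
  (hgen : ∀ x : Fˣ, ∃ i : ℕ, x = ζ ^ i) {G : Type*} [Group G] (T : Sys Q ζ G)

/-- The system in the product with the symplectic group. -/
noncomputable def pr : Sys Q ζ (G × iso B) := T.prod (model Φ hA Q ζ hgen)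

theorem pr_S (a : Fin m) (g : SL(2, F)) : (pr Φ hA hgen T).S a g = (T.S a g, psi Φ hA a g) :=
  (Sys.prod_S _ _ a g).trans (by rw [model_S])

theorem pr_Y {a b : Fin m} (hab : a ≠ b) :
    (pr Φ hA hgen T).Y a b = (T.Y a b, kg hA (Φ.e a) (Φ.e b)) :=
  (Sys.prod_Y _ _ a b).trans (by rw [model_Y Φ hA Q ζ hgen hab])

theorem pr_phi {a b : Fin m} (hab : a ≠ b) (x z : F) :
    (pr Φ hA hgen T).phi a b x z = (T.phi a b x z, kg hA (x • Φ.e a + z • Φ.f a) (Φ.e b)) :=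
  (Sys.prod_phi _ _ a b x z).trans (by rw [model_phi Φ hA Q ζ hgen hab])

theorem inj_range_S (a : Fin m) : Inj ((pr Φ hA hgen T).S a).range := by
  rintro _ ⟨g, rfl⟩ h
  rw [pr_S] at h
  rw [psi_injective Φ hA a (h.trans (map_one _).symm), map_one]

theorem map_range_S (a : Fin m) :
    ((pr Φ hA hgen T).S a).range.map (MonoidHom.snd G (iso B)) = Φ.ss a := by
  rw [← range_psi Φ hA a, MonoidHom.map_range]
  congr 1
  exact MonoidHom.ext fun g => congrArg Prod.snd (pr_S Φ hA hgen T a g)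

theorem inj_qSub {a b : Fin m} (hab : a ≠ b) : Inj ((pr Φ hA hgen T).qSub hab) := by
  rintro _ ⟨c, x, z, g, rfl⟩ h
  simp only [pr_S, pr_phi Φ hA hgen T hab, Prod.snd_mul] at h
  have hvb : B (x • Φ.e a + z • Φ.f a) (Φ.e b) = 0 := by simp [Φ.ee, Φ.fe_ne hA hab]
  have he := congrArg (fun k : iso B => (k : V ≃ₗ[F] V) (Φ.e a)) h
  have hf := congrArg (fun k : iso B => (k : V ≃ₗ[F] V) (Φ.f a)) h
  simp only [mul_apply, one_apply, psi_e, psi_f, kg_apply hA hvb, map_add, map_smul, psi_e_ne Φ hA hab,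
    psi_f_ne Φ hA hab, psi_xs_fix, LinearMap.add_apply, LinearMap.smul_apply, smul_eq_mul, Φ.ee, Φ.ff,
    Φ.fe_ne hA hab, Φ.ef_self, Φ.fe_self hA] at he hf
  have p1 := congrArg (fun y => (B y (Φ.f a), B y (Φ.e a))) he
  have p2 := congrArg (fun y => (B y (Φ.f a), B y (Φ.e a))) hf
  simp [xs_coe, Φ.ee, Φ.ff, Φ.ef_self, Φ.fe_self hA, Φ.ef_ne hab.symm, Φ.fe_ne hA hab.symm] at p1 p2
  have hg : g = 1 := by
    ext i j
    fin_cases i <;> fin_cases j <;> simp [p1.1, p1.2, p2.1, p2.2]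
  subst hg
  rw [map_one, mul_one] at h ⊢
  have hb := congrArg (fun k : iso B => (k : V ≃ₗ[F] V) (Φ.f b)) h
  simp only [mul_apply, one_apply, kg_apply hA hvb, map_add, map_smul, psi_f, psi_xs_fix, psi_e_ne Φ hA hab,
    psi_f_ne Φ hA hab] at hb
  have p3 := congrArg (fun y => (B y (Φ.f b), B y (Φ.f a), B y (Φ.e a))) hb
  simp [xs_coe, Φ.ee, Φ.ff, Φ.ef_self, Φ.fe_self hA, Φ.ef_ne hab, Φ.ef_ne hab.symm, Φ.fe_ne hA hab,
    Φ.fe_ne hA hab.symm] at p3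
  rw [p3.1, p3.2.1, p3.2.2, xs_zero, map_one, one_mul, Sys.phi_zero]

theorem inj_kSub_A {i j : Fin m} (hi : (i : ℕ) + 1 < m) (h : j = i ∨ (j : ℕ) = (i : ℕ) + 1) :
    Inj ((pr Φ hA hgen T).kSub i ⊔ ((pr Φ hA hgen T).S j).range) := by
  set k : Fin m := ⟨i + 1, hi⟩
  have hik : i ≠ k := by simp [k, Fin.ext_iff]
  obtain ⟨h1, h2⟩ := (pr Φ hA hgen T).kSub_le_qSub (j := k) rfl hik
  rcases h with rfl | h
  · exact (inj_qSub Φ hA hgen T hik).mono (sup_le h1 (Sys.range_S_le_qSub _ hik))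
  · obtain rfl : j = k := Fin.ext h
    exact (inj_qSub Φ hA hgen T hik.symm).mono (sup_le h2 (Sys.range_S_le_qSub _ hik.symm))

theorem inj_kSub (i : Fin m) : Inj ((pr Φ hA hgen T).kSub i) := by
  by_cases hi : (i : ℕ) + 1 < m
  · exact (inj_kSub_A Φ hA hgen T hi (Or.inl rfl)).mono le_sup_left
  · intro x hx _
    rw [Sys.kSub, dif_neg hi, Subgroup.mem_bot] at hx
    exact hx

theorem map_kSub {i : Fin m} (hi : (i : ℕ) + 1 < m) :
    ((pr Φ hA hgen T).kSub i).map (MonoidHom.snd G (iso B)) = Φ.mm i := by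
  set j : Fin m := ⟨i + 1, hi⟩
  have hij : i ≠ j := by simp [j, Fin.ext_iff]
  have hsnd : ∀ c d t : F, ((pr Φ hA hgen T).S i (xs c) * (pr Φ hA hgen T).S j (xs d) *
      (pr Φ hA hgen T).phi i j t 0).2 =
      tvG hA (Φ.e i) (-c) * tvG hA (Φ.e j) (-d) * kg hA (Φ.e i) (t • Φ.e j) := fun c d t => by
    simp only [Prod.snd_mul, pr_S, pr_phi Φ hA hgen T hij, psi_xs, zero_smul, add_zero,
      kg_smul_left hA (Φ.ee i j)]
  have hmem : ∀ c d t : F, tvG hA (Φ.e i) c ∈ Φ.mm i ∧ tvG hA (Φ.e j) d ∈ Φ.mm i ∧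
      kg hA (Φ.e i) (t • Φ.e j) ∈ Φ.mm i := fun c d t =>
    ⟨Φ.tv_e_mem_mm hA i i (Or.inl rfl) c, Φ.tv_e_mem_mm hA i j (Or.inr rfl) d, Φ.kg_e_mem_mm hA rfl t⟩
  refine le_antisymm ?_ fun g hg => ?_
  · rintro _ ⟨w, hw, rfl⟩
    obtain ⟨c, d, t, rfl⟩ := (Sys.mem_kSub _ (j := j) rfl).1 hw
    change ((pr Φ hA hgen T).S i (xs c) * _ * _).2 ∈ _
    rw [hsnd]
    obtain ⟨h1, h2, h3⟩ := hmem (-c) (-d) t
    exact mul_mem (mul_mem h1 h2) h3
  · obtain ⟨c, t, g', hg', rfl⟩ := Φ.mm_decomp hA (j := j) rfl hg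
    obtain ⟨h1, -, h3⟩ := hmem c 0 t
    have hm : g' ∈ Φ.mm i := by
      have := mul_mem (inv_mem (mul_mem h1 h3)) hg
      rwa [inv_mul_cancel_left] at this
    rw [← range_psi Φ hA j] at hg'
    obtain ⟨N, rfl⟩ := hg'
    have he := hm.1 j
    rw [psi_e] at he
    have q1 := congrArg (fun y => (B y (Φ.f j), B y (Φ.e j))) he
    simp [Φ.ee, Φ.ff, Φ.ef_self, Φ.fe_self hA] at q1
    have hN := Sys.sl_stab N q1.1 q1.2
    refine ⟨_, (Sys.mem_kSub _ (j := j) rfl).2 ⟨-c, N.1 0 1, t, rfl⟩, ?_⟩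
    show ((pr Φ hA hgen T).S i (xs (-c)) * _ * _).2 = _
    rw [hsnd, neg_neg, hN, psi_xs, ← hN]
    have hc := Φ.mm_mm_comm hA (hmem 0 (-(N.1 0 1)) 0).2.1 h3
    rw [mul_assoc, hc, ← mul_assoc]

theorem inj_kSub_S {i j : Fin m} (hi : (i : ℕ) + 1 < m) :
    Inj ((pr Φ hA hgen T).kSub i ⊔ ((pr Φ hA hgen T).S j).range) := by
  by_cases hj : j = i ∨ (j : ℕ) = (i : ℕ) + 1
  · exact inj_kSub_A Φ hA hgen T hi hj
  push Not at hj
  set k : Fin m := ⟨i + 1, hi⟩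
  have hik : i ≠ k := by simp [k, Fin.ext_iff]
  have hjk : j ≠ k := fun e => hj.2 (congrArg Fin.val e)
  refine inj_sup ?_ (inj_kSub Φ hA hgen T i) (inj_range_S Φ hA hgen T j) ?_
  · rintro _ hx _ ⟨g, rfl⟩
    obtain ⟨c, d, t, rfl⟩ := (Sys.mem_kSub _ (j := k) rfl).1 hx
    exact (((pr Φ hA hgen T).commute_SS hj.1.symm _ _).mul_left ((pr Φ hA hgen T).commute_SS hjk.symm _ _)).mul_left
      ((pr Φ hA hgen T).commute_S_phi hik hj.1.symm hjk.symm g t 0).symm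
  · intro x hx y hy e
    have h1 : x.2 ∈ Φ.mm i := map_kSub Φ hA hgen T hi ▸ ⟨x, hx, rfl⟩
    have h2 : y.2 ∈ Φ.ss j := map_range_S Φ hA hgen T j ▸ ⟨y, hy, rfl⟩
    have h0 : x.2 = 1 := Φ.eq_one_of_fix_all hA fun l => ⟨h1.1 l, by
      by_cases hl : l = j
      · subst hl; exact h1.2 l (fun e => hj.1 (Fin.ext e)) hj.2
      · rw [e]; exact (h2 l hl).2⟩
    rw [inj_kSub Φ hA hgen T i x hx h0, inj_range_S Φ hA hgen T j y hy (e ▸ h0)]

theorem inj_kSub_kSub {i k : Fin m} (hik : i ≠ k) (hi : (i : ℕ) + 1 < m) (hk : (k : ℕ) + 1 < m) :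
    Inj ((pr Φ hA hgen T).kSub i ⊔ (pr Φ hA hgen T).kSub k) := by
  wlog hlt : (i : ℕ) < k generalizing i k
  · rw [sup_comm]
    exact this hik.symm hk hi (by have := Fin.val_ne_of_ne hik; omega)
  set a : Fin m := ⟨i + 1, hi⟩
  set b : Fin m := ⟨k + 1, hk⟩
  have hia : i ≠ a := by simp [a, Fin.ext_iff]
  have hkb : k ≠ b := by simp [b, Fin.ext_iff]
  refine inj_sup ?_ (inj_kSub Φ hA hgen T i) (inj_kSub Φ hA hgen T k) ?_
  · rintro _ hx _ hy
    obtain ⟨c, d, t, rfl⟩ := (Sys.mem_kSub _ (j := a) rfl).1 hx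
    obtain ⟨c', d', t', rfl⟩ := (Sys.mem_kSub _ (j := b) rfl).1 hy
    set U := pr Φ hA hgen T
    have hl : Commute (U.phi i a t 0) (U.phi k b t' 0) := by
      by_cases hak : a = k
      · rw [← hak]
        exact U.commute_line_adj hia (by simp [b, Fin.ext_iff]; omega)
          (by simp [a, b, Fin.ext_iff]; omega) t t'
      · have hne : (i : ℕ) + 1 ≠ k := fun e => hak (Fin.ext e)
        exact U.commute_line_far hia hik (by simp [b, Fin.ext_iff]; omega) hak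
          (by simp [a, b, Fin.ext_iff]; omega) hkb t t'
    refine Commute.mul_left (Commute.mul_left ?_ ?_) ?_
    · exact ((U.commute_xs_xs i k c c').mul_right (U.commute_xs_xs i b c d')).mul_right (U.commute_xs_line hkb i c t')
    · exact ((U.commute_xs_xs a k d c').mul_right (U.commute_xs_xs a b d d')).mul_right (U.commute_xs_line hkb a d t')
    · exact ((U.commute_xs_line hia k c' t).symm.mul_right (U.commute_xs_line hia b d' t).symm).mul_right hl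
  · intro x hx y hy e
    have h1 : x.2 ∈ Φ.mm i := map_kSub Φ hA hgen T hi ▸ ⟨x, hx, rfl⟩
    have h2 : x.2 ∈ Φ.mm k := by rw [e]; exact map_kSub Φ hA hgen T hk ▸ ⟨y, hy, rfl⟩
    have h3 : x.2 ∈ Φ.ss k := fun l hl => ⟨h1.1 l, by
      by_cases hl' : (l : ℕ) = (k : ℕ) + 1
      · exact h1.2 l (by omega) (by omega)
      · exact h2.2 l (fun e => hl (Fin.ext e)) hl'⟩
    by_cases hak : (k : ℕ) = (i : ℕ) + 1
    · rw [← map_range_S Φ hA hgen T k] at h3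
      obtain ⟨z, hz, hze⟩ := h3
      rw [(inj_kSub_A Φ hA hgen T hi (Or.inr hak)).eq (Subgroup.mem_sup_left hx) (Subgroup.mem_sup_right hz) hze.symm,
        (inj_kSub_A Φ hA hgen T hk (Or.inl rfl)).eq (Subgroup.mem_sup_left hy) (Subgroup.mem_sup_right hz)
          (e.symm.trans hze.symm)]
    · have h0 : x.2 = 1 := Φ.eq_one_of_fix_all hA fun l => ⟨h1.1 l, by
        by_cases hl : l = k
        · subst hl; exact h1.2 l (by omega) hak
        · exact (h3 l hl).2⟩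
      rw [inj_kSub Φ hA hgen T i x hx h0, inj_kSub Φ hA hgen T k y hy (e ▸ h0)]

theorem inj_S_S {i j : Fin m} (hij : i ≠ j) :
    Inj (((pr Φ hA hgen T).S i).range ⊔ ((pr Φ hA hgen T).S j).range) := by
  refine inj_sup ?_ (inj_range_S Φ hA hgen T i) (inj_range_S Φ hA hgen T j) ?_
  · rintro _ ⟨g, rfl⟩ _ ⟨h, rfl⟩
    exact (pr Φ hA hgen T).commute_SS hij g h
  · intro x hx y hy e
    have h1 : x.2 ∈ Φ.ss i := map_range_S Φ hA hgen T i ▸ ⟨x, hx, rfl⟩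
    have h2 : y.2 ∈ Φ.ss j := map_range_S Φ hA hgen T j ▸ ⟨y, hy, rfl⟩
    have h0 : x.2 = 1 := Φ.eq_one_of_fix_all hA fun l => by
      by_cases hl : l = i
      · subst hl; rw [e]; exact h2 l hij
      · exact h1 l hl
    rw [inj_range_S Φ hA hgen T i x hx h0, inj_range_S Φ hA hgen T j y hy (e ▸ h0)]

theorem tri_model (h2 : (2 : F) = 0) {a b c : Fin m} (hab : a ≠ b) (hac : a ≠ c) (hbc : b ≠ c) :
    (model Φ hA Q ζ hgen).Tri a b c := by
  have hfc : B (Φ.f b) (Φ.e c) = 0 := Φ.fe_ne hA hbc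
  have hcf : B (Φ.f c) (Φ.e b) = 0 := Φ.fe_ne hA hbc.symm
  unfold Sys.Tri
  rw [model_Y Φ hA Q ζ hgen hab, model_phi Φ hA Q ζ hgen hbc, model_phi Φ hA Q ζ hgen hbc.symm]
  simp only [zero_smul, zero_add, one_smul]
  rw [kg_conj, kg_conj, mul_apply, mul_apply]
  simp only [kg_apply hA hfc, kg_apply hA hcf, map_add, map_smul, LinearMap.add_apply, LinearMap.smul_apply,
    smul_eq_mul, Φ.ee, Φ.ef_self, Φ.ef_ne hab, Φ.ef_ne hac, Φ.ef_ne hbc, Φ.ef_ne hbc.symm, hfc, hcf,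
    mul_zero, zero_mul, mul_one, one_mul, zero_smul, one_smul, add_zero, zero_add]
  have hz : Φ.e b + Φ.e b = 0 := by rw [← two_smul F (Φ.e b), h2, zero_smul]
  rw [show Φ.e b + Φ.e c + Φ.e b = Φ.e c by rw [add_right_comm, hz, zero_add]]
  rw [kg_mul_kg hA (Φ.ee _ _) (Φ.ee _ _), Φ.ee, tvG_zero, one_mul]

/-- The amalgam data. -/
theorem exists_data (hB : B.Nondegenerate) (hm : 2 ≤ m) (hF : (∃ a : F, a ≠ 0 ∧ a ≠ 1) ∨
      ((2 : F) = 0 ∧ ∀ a b c, a ≠ b → a ≠ c → b ≠ c → T.Tri a b c)) :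
    ∃ D : Cfsg.Lib.Recog.SpAmalgam.Data B m G, D.A = (fun j => ((pr Φ hA hgen T).S j).range) ∧
      D.K = fun i => (pr Φ hA hgen T).kSub i := by
  refine ⟨
    { hA := hA
      hB := hB
      hn := hm
      Φ := Φ
      A := fun j => ((pr Φ hA hgen T).S j).range
      K := fun i => (pr Φ hA hgen T).kSub i
      mapA := map_range_S Φ hA hgen T
      mapK := fun i hi => map_kSub Φ hA hgen T hi
      injAA := fun j l h => inj_S_S Φ hA hgen T h
      injKK := fun i k h hi hk => inj_kSub_kSub Φ hA hgen T h hi hk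
      injKA := fun i j hi => inj_kSub_S Φ hA hgen T hi
      hF := hF.imp id ?_ }, rfl, rfl⟩
  rintro ⟨h2, hT⟩ i j k hj hk
  have hij : i ≠ j := fun e => by subst e; omega
  have hjk : j ≠ k := fun e => by subst e; omega
  have hik : i ≠ k := fun e => by subst e; omega
  set U := pr Φ hA hgen T
  have hU : U.Tri i j k :=
    Sys.prod_tri T _ (hT i j k hij hik hjk) (tri_model Φ hA hgen h2 hij hik hjk)
  have hphi : ∀ a b : Fin m, a ≠ b → (∀ g, U.S a g ∈ (U.S j).range ⊔ (U.S k).range ⊔ U.kSub j) →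
      U.Y a b ∈ (U.S j).range ⊔ (U.S k).range ⊔ U.kSub j →
      U.phi a b 0 1 ∈ (U.S j).range ⊔ (U.S k).range ⊔ U.kSub j := fun a b hab hS hY => by
    rw [Sys.phi, if_neg (by simp)]
    exact mul_mem (mul_mem (hS _) hY) (inv_mem (hS _))
  have hY : U.Y j k ∈ (U.S j).range ⊔ (U.S k).range ⊔ U.kSub j :=
    Subgroup.mem_sup_right (U.Y_mem_kSub hk)
  have m1 := hphi j k hjk (fun g => Subgroup.mem_sup_left (Subgroup.mem_sup_left ⟨g, rfl⟩)) hY
  have m2 := hphi k j hjk.symm (fun g => Subgroup.mem_sup_left (Subgroup.mem_sup_right ⟨g, rfl⟩))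
    (by rw [U.Y_comm hjk.symm]; exact hY)
  have hlf : lf (U.kSub i) (kg hA (Φ.e i) (Φ.e j)) = U.Y i j := by
    have hi : (i : ℕ) + 1 < m := by omega
    have hm' : kg hA (Φ.e i) (Φ.e j) ∈ Φ.mm i := by
      have := Φ.kg_e_mem_mm hA hj (1 : F)
      rwa [one_smul] at this
    have h := lf_spec (map_kSub Φ hA hgen T hi) hm'
    exact (inj_kSub Φ hA hgen T i).eq h.1 (U.Y_mem_kSub hj) (h.2.trans (by rw [pr_Y Φ hA hgen T hij]))
  have hfjk : B (Φ.f j) (Φ.e k) = 0 := Φ.fe_ne hA hjk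
  have hfkj : B (Φ.f k) (Φ.e j) = 0 := Φ.fe_ne hA hjk.symm
  refine ⟨U.phi k j 0 1 * U.phi j k 0 1, mul_mem m2 m1, U.phi j k 0 1, m1, ?_, ?_, ?_⟩
  · rw [Prod.snd_mul, pr_phi Φ hA hgen T hjk, pr_phi Φ hA hgen T hjk.symm]
    simp only [zero_smul, zero_add, one_smul, mul_apply, kg_apply hA hfjk, kg_apply hA hfkj, map_add, map_smul,
      LinearMap.add_apply, LinearMap.smul_apply, smul_eq_mul, Φ.ee, Φ.ef_self, Φ.ef_ne hjk, Φ.ef_ne hjk.symm,
      mul_zero, mul_one, zero_smul, one_smul, add_zero]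
    rw [add_right_comm, ← two_smul F (Φ.e j), h2, zero_smul, zero_add]
  · rw [pr_phi Φ hA hgen T hjk]
    simp [kg_apply hA hfjk, Φ.ee, Φ.ef_self, Φ.ef_ne hjk]
  · rw [hlf]
    exact hU

/-- A subgroup containing the small pieces is everything. -/
theorem eq_top_of_pieces (hB : B.Nondegenerate) (hm : 2 ≤ m) (Q' : Idx m) (ζ' : Fˣ)
    (hg : ∀ x : Fˣ, ∃ i : ℕ, x = ζ' ^ i) (W : Subgroup (iso B)) (hS : ∀ a g, psi Φ hA a g ∈ W)
    (hY : ∀ i j : Fin m, (j : ℕ) = (i : ℕ) + 1 → kg hA (Φ.e i) (Φ.e j) ∈ W) : W = ⊤ := by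
  classical
  set M := model Φ hA Q' ζ' hg
  have hF : (∃ a : F, a ≠ 0 ∧ a ≠ 1) ∨ ((2 : F) = 0 ∧ ∀ a b c, a ≠ b → a ≠ c → b ≠ c → M.Tri a b c) := by
    by_cases h : ∃ a : F, a ≠ 0 ∧ a ≠ 1
    · exact Or.inl h
    · have h2 : (2 : F) = 0 := by
        by_contra h2
        refine h ⟨-1, neg_ne_zero.2 one_ne_zero, fun e => h2 ?_⟩
        linear_combination -e
      exact Or.inr ⟨h2, fun a b c hab hac hbc => tri_model Φ hA hg h2 hab hac hbc⟩
  obtain ⟨D, hDA, hDK⟩ := exists_data Φ hA hg M hB hm hF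
  obtain ⟨-, hD⟩ := D.ok_all m 0 (by omega)
  rw [D.Φ.sub_zero] at hD
  refine eq_top_iff.2 (hD.ge.trans (Subgroup.map_le_iff_le_comap.2 (D.gam_le ?_ ?_)))
  · intro j _ x hx
    rw [hDA] at hx
    obtain ⟨g, rfl⟩ := hx
    show ((pr Φ hA hg M).S j g).2 ∈ W
    rw [pr_S]
    exact hS j g
  · intro i _ hi x hx
    rw [hDK] at hx
    obtain ⟨c, d, t, rfl⟩ := (Sys.mem_kSub _ (j := ⟨i + 1, hi⟩) rfl).1 hx
    have hij : i ≠ (⟨i + 1, hi⟩ : Fin m) := by simp [Fin.ext_iff]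
    show ((pr Φ hA hg M).S i (xs c) * _ * _).2 ∈ W
    simp only [Prod.snd_mul, pr_S]
    refine mul_mem (mul_mem (hS _ _) (hS _ _)) ?_
    rcases eq_or_ne t 0 with rfl | ht
    · rw [Sys.phi_zero]; exact one_mem _
    · have h := (pr Φ hA hg M).phi_line hij (Units.mk0 t ht)
      rw [Units.val_mk0] at h
      rw [h, Prod.snd_mul, Prod.snd_mul, Prod.snd_inv, pr_S, pr_Y Φ hA hg M hij]
      exact mul_mem (mul_mem (hS _ _) (hY _ _ rfl)) (inv_mem (hS _ _))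

include hgen in
/-- The homomorphism out of the symplectic group. -/
theorem exists_hom_of_sys (hB : B.Nondegenerate) (hm : 2 ≤ m) (hF : (∃ a : F, a ≠ 0 ∧ a ≠ 1) ∨
      ((2 : F) = 0 ∧ ∀ a b c, a ≠ b → a ≠ c → b ≠ c → T.Tri a b c)) :
    ∃ φ : iso B →* G, (∀ a g, φ (psi Φ hA a g) = T.S a g) ∧
      ∀ i j : Fin m, (j : ℕ) = (i : ℕ) + 1 → φ (kg hA (Φ.e i) (Φ.e j)) = T.Y i j := by
  obtain ⟨D, hDA, hDK⟩ := exists_data Φ hA hgen T hB hm hF
  obtain ⟨φ, h1, h2⟩ := D.exists_hom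
  refine ⟨φ, fun a g => ?_, fun i j hij => ?_⟩
  · have := h1 a ((pr Φ hA hgen T).S a g) (by rw [hDA]; exact ⟨g, rfl⟩)
    rwa [pr_S] at this
  · have hne : i ≠ j := fun e => by subst e; omega
    have := h2 i (by omega) ((pr Φ hA hgen T).Y i j) (by rw [hDK]; exact (pr Φ hA hgen T).Y_mem_kSub hij)
    rwa [pr_Y Φ hA hgen T hne] at this

end Cfsg.Lib.Linear.ShortPres.SpN
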