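import Cfsg.Agent.Lib.Linear.ShortPres.SpN.Rels

/-!
# Twenty linking relations in degree at least four
-/

set_option autoImplicit false
set_option linter.unusedSectionVars false

namespace Cfsg.Lib.Linear.ShortPres.SpN

open Equiv
open scoped MatrixGroups

variable {F : Type*} [Field F] {m : ℕ} {G H : Type*} [Group G] [Group H]

open Classical in
/-- The relations. -/
noncomputable def relsTwenty (Q : Idx m) (ζ : Fˣ) (A : SL(2, F) → G) (Bp : alternatingGroup (Fin m) → G) (y : G)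
    (u : Fin 2 → SL(2, F)) (ps : Fin 2 → alternatingGroup (Fin m)) (qs : Fin 3 → alternatingGroup (Fin m)) :
    List (G × G) :=
  [(Bp (ps 0) * A (u 0), A (u 0) * Bp (ps 0)),
   (Bp (ps 0) * A (u 1), A (u 1) * Bp (ps 0)),
   (Bp (ps 1) * A (u 0), A (u 0) * Bp (ps 1)),
   (Bp (ps 1) * A (u 1), A (u 1) * Bp (ps 1)),
   (Bp (qs 0) * y, y * Bp (qs 0)),
   (Bp (qs 1) * y, y * Bp (qs 1)),
   (Bp (qs 2) * y, y * Bp (qs 2)),
   (A (u 0) * fS Q A Bp Q.i1 (u 0), fS Q A Bp Q.i1 (u 0) * A (u 0)),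
   (A (u 0) * fS Q A Bp Q.i1 (u 1), fS Q A Bp Q.i1 (u 1) * A (u 0)),
   (A (u 1) * fS Q A Bp Q.i1 (u 0), fS Q A Bp Q.i1 (u 0) * A (u 1)),
   (A (u 1) * fS Q A Bp Q.i1 (u 1), fS Q A Bp Q.i1 (u 1) * A (u 1)),
   (if ∃ a : F, a ≠ 0 ∧ a ≠ 1 then
      (A (ds ζ) * (fS Q A Bp Q.i1 (ds ζ))⁻¹ * y, y * (A (ds ζ) * (fS Q A Bp Q.i1 (ds ζ))⁻¹))
    else fTri Q A Bp y Q.i0 Q.i1 Q.i2),
   (A (xs 1) * y, y * A (xs 1)),
   (y * fS Q A Bp Q.i2 (u 0), fS Q A Bp Q.i2 (u 0) * y),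
   (y * fS Q A Bp Q.i2 (u 1), fS Q A Bp Q.i2 (u 1) * y),
   (y * fY Q Bp y Q.i1 Q.i2, fY Q Bp y Q.i1 Q.i2 * y),
   (y * fY Q Bp y Q.i2 Q.i3, fY Q Bp y Q.i2 Q.i3 * y),
   (fY Q Bp y Q.i0 Q.i1 * fPhi Q A Bp y Q.i0 Q.i1 (gsf 1),
     fS Q A Bp Q.i1 (xs ((1 : Fˣ) : F)) * fPhi Q A Bp y Q.i0 Q.i1 (gef ((1 : Fˣ) : F))),
   (if ∃ a : F, a ≠ 0 ∧ a ≠ 1 then
      (fY Q Bp y Q.i0 Q.i1 * fPhi Q A Bp y Q.i0 Q.i1 (gsf ζ),
        fS Q A Bp Q.i1 (xs (ζ : F)) * fPhi Q A Bp y Q.i0 Q.i1 (gef (ζ : F)))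
    else fTri Q A Bp y Q.i2 Q.i1 Q.i0),
   (Bp (c3 Q), fTau Q A Bp y Q.i0 Q.i1 * fTau Q A Bp y Q.i1 Q.i2)]

theorem map_relsTwenty (f : G →* H) (Q : Idx m) (ζ : Fˣ) (A : SL(2, F) → G) (Bp : alternatingGroup (Fin m) → G)
    (y : G) (u : Fin 2 → SL(2, F)) (ps : Fin 2 → alternatingGroup (Fin m))
    (qs : Fin 3 → alternatingGroup (Fin m)) :
    (relsTwenty Q ζ A Bp y u ps qs).map (fun e => (f e.1, f e.2)) =
      relsTwenty Q ζ (fun g => f (A g)) (fun g => f (Bp g)) (f y) u ps qs := by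
  simp only [relsTwenty, List.map_cons, List.map_nil]
  split_ifs <;> simp [fTri, fTau, fPhi, fY, fS]

theorem relsTwenty_of_rels (Q : Idx m) (ζ : Fˣ) (hm : 4 ≤ m) (A : SL(2, F) → G) (Bp : alternatingGroup (Fin m) → G)
    (y : G) (u : Fin 2 → SL(2, F)) (ps : Fin 2 → alternatingGroup (Fin m))
    (qs : Fin 3 → alternatingGroup (Fin m)) (h : ∀ e ∈ rels Q ζ A Bp y u ps qs, e.1 = e.2) :
    ∀ e ∈ relsTwenty Q ζ A Bp y u ps qs, e.1 = e.2 := by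
  simp only [rels, List.forall_mem_cons, if_pos hm] at h
  obtain ⟨a00, a01, a10, a11, q0, q1, q2, k00, k01, k10, k11, t, e0, -, g0, g1, h1, h2, fa1, faz, -, -, hc,
    hk0, hk1, -⟩ := h
  simp only [relsTwenty, List.forall_mem_cons]
  refine ⟨a00, a01, a10, a11, q0, q1, q2, k00, k01, k10, k11, ?_, e0, g0, g1, h1, h2, fa1, ?_, hc, by simp⟩
  · split_ifs with h
    · exact t
    · rw [if_neg h] at hk0; exact hk0
  · split_ifs with h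
    · exact faz
    · rw [if_neg h] at hk1; exact hk1

variable [Fintype F] {P : Type*} [Group P]

theorem rels_of_relsTwenty {Q : Idx m} {ζ : Fˣ} (hm : 4 ≤ m) (u : Fin 2 → SL(2, F))
    (hu : Subgroup.closure (Set.range u) = ⊤) (ps : Fin 2 → alternatingGroup (Fin m))
    (hps : ∀ π : alternatingGroup (Fin m), π.1 Q.i0 = Q.i0 → π ∈ Subgroup.closure (Set.range ps))
    (qs : Fin 3 → alternatingGroup (Fin m))
    (hqs : ∀ π : alternatingGroup (Fin m),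
      ((π.1 Q.i0 = Q.i0 ∧ π.1 Q.i1 = Q.i1) ∨ (π.1 Q.i0 = Q.i1 ∧ π.1 Q.i1 = Q.i0)) →
        π ∈ Subgroup.closure (Set.range qs))
    (A : SL(2, F) →* P) (Bp : alternatingGroup (Fin m) →* P) (y : P)
    (hr : ∀ e ∈ relsTwenty Q ζ A Bp y u ps qs, e.1 = e.2) :
    ∀ e ∈ rels Q ζ A Bp y u ps qs, e.1 = e.2 := by
  classical
  simp only [relsTwenty, List.forall_mem_cons] at hr
  obtain ⟨a00, a01, a10, a11, q0, q1, q2, k00, k01, k10, k11, t, e0, g0, g1, h1, h2, fa1, fz, hc, -⟩ := hr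
  have hA := fixA_of_gens u hu ps hps A Bp a00 a01 a10 a11
  have hY := fixY_of_gens qs hqs Bp y q0 q1 q2
  obtain ⟨π, hπ⟩ := SLN.exists_even (swap Q.i0 Q.i1) (Q.h3 hm).2.2
  have e10 : π.1 Q.i0 = Q.i1 ∧ π.1 Q.i1 = Q.i0 := by
    obtain ⟨h03, h13, -⟩ := Q.h3 hm
    rcases hπ with h | h <;> rw [h]
    · exact ⟨swap_apply_left _ _, swap_apply_right _ _⟩
    · simp [Perm.mul_apply, swap_apply_of_ne_of_ne Q.h02 h03, swap_apply_of_ne_of_ne Q.h12 h13]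
  set c := (MulAut.conj (Bp π)).toMonoidHom with hc'
  have hSA : ∀ (a : Fin m) (w : alternatingGroup (Fin m)), w.1 Q.i0 = a → ∀ g,
      fS Q A Bp a g = Bp w * A g * (Bp w)⁻¹ := fun a w hw g => by
    have h := (hA (w⁻¹ * piA Q a) (by
      rw [Subgroup.coe_mul, Perm.mul_apply, piA_apply, Subgroup.coe_inv, Perm.inv_eq_iff_eq, hw]) g).mul_inv_cancel
    conv_rhs => rw [← h]
    simp only [fS, map_mul, map_inv]
    group
  have hS0 : ∀ g, fS Q A Bp Q.i0 g = A g := fun g => by rw [hSA Q.i0 1 rfl]; simp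
  have c0 : ∀ g, c (A g) = fS Q A Bp Q.i1 g := fun g => (hSA Q.i1 π e10.1 g).symm
  have c1 : ∀ g, c (fS Q A Bp Q.i1 g) = A g := fun g => by
    rw [← hS0 g, hSA Q.i0 (π * piA Q Q.i1) (by rw [Subgroup.coe_mul, Perm.mul_apply, piA_apply, e10.2]), map_mul]
    simp [hc', fS, mul_assoc]
  have cy : c y = y := (hY π (Or.inr e10)).mul_inv_cancel
  have hY0 : fY Q Bp y Q.i0 Q.i1 = y := (hY _ (piY_apply Q Q.h01)).mul_inv_cancel
  have hY1 : fY Q Bp y Q.i1 Q.i0 = y := (hY _ (piY_apply Q Q.h01.symm).symm).mul_inv_cancel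
  have e1 : fS Q A Bp Q.i1 (xs 1) * y = y * fS Q A Bp Q.i1 (xs 1) := by
    have := congrArg c e0
    rwa [map_mul, map_mul, c0, cy] at this
  have swapped : ∀ s : Fˣ,
      fY Q Bp y Q.i0 Q.i1 * fPhi Q A Bp y Q.i0 Q.i1 (gsf s) =
        fS Q A Bp Q.i1 (xs (s : F)) * fPhi Q A Bp y Q.i0 Q.i1 (gef (s : F)) →
      fY Q Bp y Q.i1 Q.i0 * fPhi Q A Bp y Q.i1 Q.i0 (gsf s) =
        fS Q A Bp Q.i0 (xs (s : F)) * fPhi Q A Bp y Q.i1 Q.i0 (gef (s : F)) := by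
    intro s h
    have h' := congrArg c h
    simp only [fPhi, hY0, hY1, hS0, map_mul, map_inv, c0, c1, cy] at h' ⊢
    exact h'
  simp only [rels, List.forall_mem_cons]
  by_cases hF : ∃ a : F, a ≠ 0 ∧ a ≠ 1
  · rw [if_pos hF] at t fz
    refine ⟨a00, a01, a10, a11, q0, q1, q2, k00, k01, k10, k11, t, e0, e1, g0, g1, h1, ?_, fa1, fz, swapped 1 fa1,
      swapped ζ fz, hc, ?_, ?_, by simp⟩
    · rw [if_pos hm]; exact h2
    · rw [if_pos hF]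
    · rw [if_pos hF]
  · rw [if_neg hF] at t fz
    have hζ : ζ = 1 := Units.ext (by
      by_contra hne
      exact hF ⟨ζ, ζ.ne_zero, hne⟩)
    refine ⟨a00, a01, a10, a11, q0, q1, q2, k00, k01, k10, k11, ?_, e0, e1, g0, g1, h1, ?_, fa1, ?_, swapped 1 fa1,
      ?_, hc, ?_, ?_, by simp⟩
    · simp [hζ, ds_one, fS]
    · rw [if_pos hm]; exact h2
    · rw [hζ]; exact fa1
    · rw [hζ]; exact swapped 1 fa1
    · rw [if_neg hF]; exact t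
    · rw [if_neg hF]; exact fz

end Cfsg.Lib.Linear.ShortPres.SpN
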