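import Cfsg.Agent.Lib.Linear.ShortPres.SpN.Main
import Cfsg.Agent.Lib.Linear.ShortPres.SpN.RelsTwenty
import Cfsg.Agent.Lib.Linear.ShortPres.Alt.Half

/-!
# Presentations of symplectic groups, counting generators
-/

set_option autoImplicit false
set_option linter.unusedSectionVars false

namespace Cfsg.Lib.Linear.ShortPres

/-- A quotient by a subgroup generated by one element. -/
theorem BddG.quotient {M : Type*} [Group M] {k r : ℕ} (h : BddG M k r) (N : Subgroup M) [N.Normal] (z : M)
    (hz : Subgroup.closure ({z} : Set M) = N) : BddG (M ⧸ N) k (r + 1) := by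
  classical
  obtain ⟨R, hR, ⟨e⟩⟩ := h
  obtain ⟨w, hw⟩ := PresentedGroup.mk_surjective _ (e.symm z)
  let π : FreeGroup (Fin k) →* M ⧸ N :=
    ((QuotientGroup.mk' N).comp e.toMonoidHom).comp (PresentedGroup.mk (↑R : Set (FreeGroup (Fin k))))
  have hπ : FreeGroup.lift (fun i => π (FreeGroup.of i)) = π := FreeGroup.ext_hom _ _ fun i => by simp
  have hkill : ∀ x ∈ (↑(insert w R) : Set (FreeGroup (Fin k))),
      FreeGroup.lift (fun i => π (FreeGroup.of i)) x = 1 := by
    intro x hx
    rw [hπ]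
    rw [Finset.coe_insert, Set.mem_insert_iff] at hx
    rcases hx with rfl | hx
    · simp only [π, MonoidHom.comp_apply, hw, MulEquiv.coe_toMonoidHom, MulEquiv.apply_symm_apply,
        QuotientGroup.mk'_apply, QuotientGroup.eq_one_iff]
      rw [← hz]
      exact Subgroup.subset_closure rfl
    · simp only [π, MonoidHom.comp_apply, PresentedGroup.one_of_mem hx, map_one]
  have hR' : ∀ x ∈ (↑R : Set (FreeGroup (Fin k))),
      FreeGroup.lift (PresentedGroup.of (rels := (↑(insert w R) : Set (FreeGroup (Fin k))))) x = 1 := fun x hx => by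
    rw [show FreeGroup.lift (PresentedGroup.of (rels := (↑(insert w R) : Set (FreeGroup (Fin k))))) =
      PresentedGroup.mk _ from FreeGroup.ext_hom _ _ fun i => by simp [PresentedGroup.of]]
    exact PresentedGroup.one_of_mem (Finset.mem_coe.2 (Finset.mem_insert_of_mem (Finset.mem_coe.1 hx)))
  let θ : M →* PresentedGroup (↑(insert w R) : Set (FreeGroup (Fin k))) :=
    (PresentedGroup.toGroup hR').comp e.symm.toMonoidHom
  have hθ : ∀ x, θ (e (PresentedGroup.mk _ x)) = PresentedGroup.mk _ x := fun x => by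
    simp only [θ, MonoidHom.comp_apply, MulEquiv.coe_toMonoidHom, MulEquiv.symm_apply_apply]
    rw [← MonoidHom.comp_apply (PresentedGroup.toGroup hR')]
    congr 1
    exact FreeGroup.ext_hom _ _ fun i => by
      simp only [MonoidHom.comp_apply]
      exact PresentedGroup.toGroup.of hR'
  have hN : N ≤ θ.ker := by
    rw [← hz, Subgroup.closure_le, Set.singleton_subset_iff]
    show θ z = 1
    rw [show z = e (PresentedGroup.mk _ w) by rw [hw, MulEquiv.apply_symm_apply], hθ]
    exact PresentedGroup.one_of_mem (Finset.mem_coe.2 (Finset.mem_insert_self _ _))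
  refine ⟨insert w R, (Finset.card_insert_le _ _).trans (Nat.add_le_add_right hR 1),
    ⟨MonoidHom.toMulEquiv (PresentedGroup.toGroup hkill) (QuotientGroup.lift N θ hN) ?_ ?_⟩⟩
  · refine PresentedGroup.ext fun i => ?_
    simp only [MonoidHom.comp_apply, PresentedGroup.toGroup.of, MonoidHom.id_apply]
    exact hθ (FreeGroup.of i)
  · refine MonoidHom.ext fun x => ?_
    induction x using QuotientGroup.induction_on with
    | H g =>
      obtain ⟨v, hv⟩ := PresentedGroup.mk_surjective _ (e.symm g)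
      have hg : g = e (PresentedGroup.mk _ v) := by rw [hv, MulEquiv.apply_symm_apply]
      simp only [MonoidHom.comp_apply, QuotientGroup.lift_mk, MonoidHom.id_apply]
      rw [hg, hθ]
      show (PresentedGroup.toGroup hkill).comp (PresentedGroup.mk _) v = π v
      congr 1

namespace SpN

open scoped MatrixGroups
open Cfsg.Lib.Linear.Symp Cfsg.Lib.Recog.SpAmalgam

variable {F : Type*} [Field F] [Fintype F]

/-- The presented isometry group, counting generators. -/
theorem bddG_iso (short : Bool) {V : Type*} [AddCommGroup V] [Module F V] [FiniteDimensional F V] {B : LinearMap.BilinForm F V}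
    {m : ℕ} (hm : 3 ≤ m) (Φ : Cfsg.Lib.Recog.SpAmalgam.Frame B m) (hA : B.IsAlt) (hB : B.Nondegenerate)
    [Finite (iso B)] {k r : ℕ} (hAlt : BddG (alternatingGroup (Fin m)) k r) (h4 : short = true → 4 ≤ m) :
    BddG (iso B) (3 + k + 1) (9 + r + 1 + if short then 20 else 25) := by
  classical
  obtain ⟨ζ, hζ⟩ := IsCyclic.exists_generator (α := Fˣ)
  have hgen : ∀ x : Fˣ, ∃ i : ℕ, x = ζ ^ i := fun x => by
    obtain ⟨i, hi⟩ := mem_powers_iff_mem_zpowers.2 (hζ x)
    exact ⟨i, hi.symm⟩
  haveI : Fact (ringChar F).Prime := ⟨CharP.char_is_prime F _⟩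
  set Q := Idx.std hm with hQdef
  obtain ⟨u, hu⟩ := sl_two_two_gen (F := F)
  obtain ⟨ps, hps, hps'⟩ := point_stab Q.i0
  obtain ⟨qs, hqs, hqs'⟩ := pair_stab Q.h01
  obtain ⟨⟨R2, hR2, he2⟩, -, -⟩ := Cfsg.Agent.S2286.result (F := F)
  have h2 : BddG SL(2, F) 3 9 := ⟨R2, hR2, he2⟩
  have hC := h2.coprod hAlt
  have hcyc : Subgroup.closure ({Multiplicative.ofAdd (1 : ZMod (ringChar F))} : Set _) = ⊤ := by
    refine eq_top_iff.2 fun z _ => ?_
    rw [← Subgroup.zpowers_eq_closure, Subgroup.mem_zpowers_iff]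
    exact ⟨(z.toAdd.val : ℤ), by
      rw [zpow_natCast, ← ofAdd_nsmul, nsmul_eq_mul, mul_one, ZMod.natCast_zmod_val, ofAdd_toAdd]⟩
  have hY : BddG (Multiplicative (ZMod (ringChar F))) 1 1 := Bdd.of_gen_one _ hcyc
  set M := model Φ hA Q ζ hgen with hMdef
  let ι₁ : Monoid.Coprod SL(2, F) (alternatingGroup (Fin m)) →* iso B := Monoid.Coprod.lift M.A M.Bp
  let ι₂ : Multiplicative (ZMod (ringChar F)) →* iso B :=
    MonoidHom.mk' (fun z => kg hA (Φ.e Q.i0) ((ZMod.castHom (dvd_refl (ringChar F)) F z.toAdd) • Φ.e Q.i1))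
      fun z w => by
        rw [kg_mul_kg hA (by simp [Φ.ee]) (by simp [Φ.ee]), toAdd_mul, map_add, add_smul]
        simp [Φ.ee, tvG_zero]
  have hι₂ : ι₂ (Multiplicative.ofAdd (1 : ZMod (ringChar F))) = M.y := by
    show kg hA (Φ.e Q.i0) ((ZMod.castHom (dvd_refl (ringChar F)) F 1) • Φ.e Q.i1) = _
    rw [map_one, one_smul]
    rfl
  let wA : SL(2, F) → FreeGroup (Monoid.Coprod SL(2, F) (alternatingGroup (Fin m)) ⊕ Multiplicative (ZMod (ringChar F))) :=
    fun g => FreeGroup.of (Sum.inl (Monoid.Coprod.inl g))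
  let wB : alternatingGroup (Fin m) →
      FreeGroup (Monoid.Coprod SL(2, F) (alternatingGroup (Fin m)) ⊕ Multiplicative (ZMod (ringChar F))) :=
    fun g => FreeGroup.of (Sum.inl (Monoid.Coprod.inr g))
  let wy : FreeGroup (Monoid.Coprod SL(2, F) (alternatingGroup (Fin m)) ⊕ Multiplicative (ZMod (ringChar F))) :=
    FreeGroup.of (Sum.inr (Multiplicative.ofAdd 1))
  set L := if short then relsTwenty Q ζ wA wB wy u ps qs else rels Q ζ wA wB wy u ps qs with hLdef
  have hlen : L.length = if short then 20 else 25 := by cases short <;> rfl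
  refine (hC.combine hY ι₁ ι₂ ?_ L ?_ ?_).mono (by rw [hlen])
  · set W := Subgroup.closure (Set.range ι₁ ∪ Set.range ι₂)
    have wA' : ∀ g, M.A g ∈ W := fun g =>
      Subgroup.subset_closure (Or.inl ⟨Monoid.Coprod.inl g, Monoid.Coprod.lift_apply_inl _ _ _⟩)
    have wB' : ∀ g, M.Bp g ∈ W := fun g =>
      Subgroup.subset_closure (Or.inl ⟨Monoid.Coprod.inr g, Monoid.Coprod.lift_apply_inr _ _ _⟩)
    have wy' : M.y ∈ W := hι₂ ▸ Subgroup.subset_closure (Or.inr ⟨_, rfl⟩)
    refine eq_top_of_pieces Φ hA hB (by omega) Q ζ hgen W (fun a g => ?_) fun i j hij => ?_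
    · rw [← model_S Φ hA Q ζ hgen]
      exact mul_mem (mul_mem (wB' _) (wA' g)) (inv_mem (wB' _))
    · rw [← model_Y Φ hA Q ζ hgen (fun e => by subst e; omega)]
      exact mul_mem (mul_mem (wB' _) wy') (inv_mem (wB' _))
  · intro e he
    have hm' : (FreeGroup.lift (Sum.elim ι₁ ι₂) e.1, FreeGroup.lift (Sum.elim ι₁ ι₂) e.2) ∈
        L.map (fun e => (FreeGroup.lift (Sum.elim ι₁ ι₂) e.1, FreeGroup.lift (Sum.elim ι₁ ι₂) e.2)) :=
      List.mem_map.2 ⟨e, he, rfl⟩
    have hA' : (fun g => FreeGroup.lift (Sum.elim ι₁ ι₂) (wA g)) = M.A := funext fun g => by simp [wA, ι₁]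
    have hB' : (fun g => FreeGroup.lift (Sum.elim ι₁ ι₂) (wB g)) = M.Bp := funext fun g => by simp [wB, ι₁]
    have hy' : FreeGroup.lift (Sum.elim ι₁ ι₂) wy = M.y := by simp [wy, hι₂]
    have hM0 := rels_model Φ hA hgen Q u ps hps qs hqs
    cases short with
    | false =>
      simp only [Bool.false_eq_true, if_false] at hLdef
      rw [hLdef, map_rels, hA', hB', hy'] at hm'
      exact hM0 _ hm'
    | true =>
      simp only [if_true] at hLdef
      rw [hLdef, map_relsTwenty, hA', hB', hy'] at hm'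
      exact relsTwenty_of_rels Q ζ (h4 rfl) _ _ _ u ps qs hM0 _ hm'
  · intro G _ A B' hgenG hr
    let A₀ : SL(2, F) →* G := A.comp Monoid.Coprod.inl
    let B₀ : alternatingGroup (Fin m) →* G := A.comp Monoid.Coprod.inr
    let y : G := B' (Multiplicative.ofAdd 1)
    have hy : y ^ ringChar F = 1 := by
      rw [← map_pow, ← ofAdd_nsmul, nsmul_eq_mul, mul_one, ZMod.natCast_self, ofAdd_zero, map_one]
    have hr' : ∀ e ∈ rels Q ζ A₀ B₀ y u ps qs, e.1 = e.2 := by
      intro e he
      have hA' : (fun g => FreeGroup.lift (Sum.elim A B') (wA g)) = A₀ := funext fun g => by simp [wA, A₀]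
      have hB' : (fun g => FreeGroup.lift (Sum.elim A B') (wB g)) = B₀ := funext fun g => by simp [wB, B₀]
      have hy' : FreeGroup.lift (Sum.elim A B') wy = y := by simp [wy, y]
      cases short with
      | false =>
        simp only [Bool.false_eq_true, if_false] at hLdef
        rw [← hA', ← hB', ← hy', ← map_rels] at he
        obtain ⟨d, hd, rfl⟩ := List.mem_map.1 he
        exact hr d (hLdef ▸ hd)
      | true =>
        simp only [if_true] at hLdef
        refine rels_of_relsTwenty (h4 rfl) u hu ps hps' qs hqs' A₀ B₀ y (fun d hd => ?_) e he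
        rw [← hA', ← hB', ← hy', ← map_relsTwenty] at hd
        obtain ⟨d', hd', rfl⟩ := List.mem_map.1 hd
        exact hr d' (hLdef ▸ hd')
    obtain ⟨T, hTA, hTB, hTy, hc, hF⟩ := exists_sys hgen u hu ps hps' qs hqs' A₀ B₀ y hy hr'
    obtain ⟨φ, hφ⟩ := exists_surjective Φ hA hm hgen hB (Q := Q) (by simp [hQdef, Idx.std]) T
      (by rw [hTA, hTB, hTy]; exact hc) hF (by
        rw [hTA, hTB, hTy, eq_top_iff, ← hgenG, Subgroup.closure_le]
        set W := Subgroup.closure (Set.range A₀ ∪ Set.range B₀ ∪ {y})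
        rintro _ (⟨c, rfl⟩ | ⟨z, rfl⟩)
        · have h : (⊤ : Subgroup (Monoid.Coprod SL(2, F) (alternatingGroup (Fin m)))) ≤ W.comap A := by
            rw [← Monoid.Coprod.range_inl_sup_range_inr]
            refine sup_le ?_ ?_ <;> rintro _ ⟨g, rfl⟩
            · exact Subgroup.subset_closure (Or.inl (Or.inl ⟨g, rfl⟩))
            · exact Subgroup.subset_closure (Or.inl (Or.inr ⟨g, rfl⟩))
          exact h (Subgroup.mem_top c)
        · have h : (⊤ : Subgroup (Multiplicative (ZMod (ringChar F)))) ≤ W.comap B' := by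
            rw [← hcyc, Subgroup.closure_le, Set.singleton_subset_iff]
            exact Subgroup.subset_closure (Or.inr rfl)
          exact h (Subgroup.mem_top z))
    exact ⟨Finite.of_surjective φ hφ, Nat.card_le_card_of_surjective φ hφ⟩

/-- The symplectic group and its central quotient. -/
theorem present_pair {n k r : ℕ} (hn : 3 ≤ n) (h : BddG (iso (spB n F)) k r) :
    (∃ rels : Finset (FreeGroup (Fin k)), rels.card ≤ r ∧
      Nonempty (PresentedGroup (↑rels : Set (FreeGroup (Fin k))) ≃* Matrix.symplecticGroup (Fin n) F)) ∧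
    (∃ rels : Finset (FreeGroup (Fin k)), rels.card ≤ r + 1 ∧
      Nonempty (PresentedGroup (↑rels : Set (FreeGroup (Fin k))) ≃* Cfsg.PSp n F)) := by
  classical
  let E : ↥(Matrix.symplecticGroup (Fin n) F) ≃* iso (spB n F) := spEquiv
  haveI : Nontrivial (Fin n ⊕ Fin n → F) := by
    haveI : Nonempty (Fin n ⊕ Fin n) := ⟨Sum.inl ⟨0, by omega⟩⟩
    infer_instance
  haveI := isCyclic_center (spB_nondegenerate n F) (spB_isAlt n F)
  haveI : IsCyclic (Subgroup.center ↥(Matrix.symplecticGroup (Fin n) F)) :=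
    isCyclic_of_surjective _ (Subgroup.centerCongr E).symm.surjective
  obtain ⟨z, hz⟩ := IsCyclic.exists_generator (α := Subgroup.center ↥(Matrix.symplecticGroup (Fin n) F))
  refine ⟨h.of_equiv E.symm, BddG.quotient (h.of_equiv E.symm) (Subgroup.center _) z.1
    (le_antisymm ((Subgroup.closure_le _).2 (Set.singleton_subset_iff.2 z.2)) fun x hx => ?_)⟩
  obtain ⟨j, hj⟩ := Subgroup.mem_zpowers_iff.1 (hz ⟨x, hx⟩)
  have : (z.1 : ↥(Matrix.symplecticGroup (Fin n) F)) ^ j = x := by rw [← Subgroup.coe_zpow, hj]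
  rw [← this]
  exact Subgroup.zpow_mem _ (Subgroup.subset_closure (Set.mem_singleton z.1)) j

theorem finite_iso (n : ℕ) : Finite (iso (spB n F)) :=
  Finite.of_equiv ↥(Matrix.symplecticGroup (Fin n) F) (spEquiv : _ ≃* iso (spB n F)).toEquiv

/-- Rank three. -/
theorem bddG_three : BddG (iso (spB 3 F)) 8 52 := by
  haveI := finite_iso (F := F) 3
  exact ((bddG_iso false le_rfl (stdFrame F 3) (spB_isAlt 3 F) (spB_nondegenerate 3 F)
    (Alt.bddG_small 1) (by simp)).pad 3).mono (by simp)

/-- Ranks four and five. -/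
theorem bddG_four_five {n : ℕ} (hn : n = 4 ∨ n = 5) : BddG (iso (spB n F)) 9 57 := by
  haveI := finite_iso (F := F) n
  rcases hn with rfl | rfl
  · exact ((bddG_iso false (by norm_num) (stdFrame F 4) (spB_isAlt 4 F) (spB_nondegenerate 4 F)
      (Alt.bddG_small 2) (by simp)).pad 3).mono (by simp)
  · exact ((bddG_iso false (by norm_num) (stdFrame F 5) (spB_isAlt 5 F) (spB_nondegenerate 5 F)
      (Alt.bddG_small 3) (by simp)).pad 2).mono (by simp)

/-- Rank at least four. -/
theorem bddG_ge_four {n : ℕ} (hn : 4 ≤ n) : BddG (iso (spB n F)) 10 58 := by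
  haveI := finite_iso (F := F) n
  rcases Nat.lt_or_ge n 6 with h6 | h6
  · exact ((bddG_four_five (show n = 4 ∨ n = 5 by omega)).pad 1).mono (by norm_num)
  · exact ((bddG_iso true (by omega) (stdFrame F n) (spB_isAlt n F) (spB_nondegenerate n F)
      (Alt.bddG_alt h6) (fun _ => hn)).pad 1).mono (by simp)

end SpN

end Cfsg.Lib.Linear.ShortPres
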