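import Cfsg.Agent.Lib.Linear.ShortPres.SpN.Rels
import Cfsg.Agent.Lib.Linear.ShortPres.SLN.Projective
import Cfsg.Agent.Lib.Recog.SpAmalgam.Bridge
import Cfsg.Agent.S2286

/-!
# Presentations of symplectic groups with boundedly many relators
-/

set_option autoImplicit false
set_option linter.unusedSectionVars false

namespace Cfsg.Lib.Linear.ShortPres.SpN

open scoped MatrixGroups
open Cfsg.Lib.Linear.Symp Cfsg.Lib.Recog.SpAmalgam

variable {F : Type*} [Field F] [Fintype F]

theorem sl_two_two_gen : ∃ u : Fin 2 → SL(2, F), Subgroup.closure (Set.range u) = ⊤ := by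
  classical
  suffices h : ∃ a b : SL(2, F), Subgroup.closure ({a, b} : Set SL(2, F)) = ⊤ by
    obtain ⟨a, b, hab⟩ := h
    refine ⟨![a, b], ?_⟩
    rw [eq_top_iff, ← hab]
    refine Subgroup.closure_mono ?_
    rintro x (rfl | rfl)
    · exact ⟨0, rfl⟩
    · exact ⟨1, rfl⟩
  by_cases hq : 4 ≤ Fintype.card F
  · exact SLN.sl_two_pair hq
  refine ⟨xs 1, ts, closure_gens (fun c => ?_) (Subgroup.subset_closure (Or.inr rfl))⟩
  obtain ⟨p, hp⟩ := CharP.exists F
  haveI : CharP F p := hp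
  haveI : Fact p.Prime := ⟨CharP.char_is_prime F p⟩
  obtain ⟨n, hpp, hn⟩ := FiniteField.card F p
  have h1 : (n : ℕ) = 1 := by
    rcases Nat.lt_or_ge (n : ℕ) 2 with h | h
    · have := n.pos; omega
    · exfalso
      have : 2 ^ 2 ≤ p ^ (n : ℕ) := (Nat.pow_le_pow_left hpp.two_le 2).trans (Nat.pow_le_pow_right hpp.pos h)
      omega
  rw [h1, pow_one] at hn
  obtain ⟨z, hz⟩ := ((Fintype.bijective_iff_injective_and_card (ZMod.castHom (dvd_refl p) F)).2
    ⟨(ZMod.castHom (dvd_refl p) F).injective, by rw [ZMod.card, hn]⟩).2 c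
  have : c = (z.val : F) * 1 := by
    rw [mul_one, ← hz]
    conv_lhs => rw [← ZMod.natCast_zmod_val z, map_natCast]
  rw [this, xs_nsmul]
  exact pow_mem (Subgroup.subset_closure (Set.mem_insert (xs (1 : F)) {ts})) _

theorem isCyclic_center {V : Type*} [AddCommGroup V] [Module F V] [FiniteDimensional F V] [Nontrivial V]
    {B : LinearMap.BilinForm F V} (hB : B.Nondegenerate) (hA : B.IsAlt) : IsCyclic (Subgroup.center (iso B)) := by
  classical
  have hc : Nat.card (Subgroup.center (iso B)) ≤ 2 := by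
    rw [card_center hB hA, Nat.card_eq_fintype_card, Fintype.card_subtype]
    refine (Finset.card_le_card (t := ({1, -1} : Finset F)) fun a ha => ?_).trans Finset.card_le_two
    simp only [Finset.mem_filter, Finset.mem_univ, true_and] at ha
    rcases mul_self_eq_one_iff.1 ha with h | h <;> simp [h]
  have hpos : 0 < Nat.card (Subgroup.center (iso B)) := by
    rw [card_center hB hA]
    haveI : Nonempty {a : F // a * a = 1} := ⟨⟨1, one_mul 1⟩⟩
    exact Nat.card_pos
  haveI : Finite (Subgroup.center (iso B)) := Nat.finite_of_card_ne_zero hpos.ne'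
  rcases Nat.lt_or_ge (Nat.card (Subgroup.center (iso B))) 2 with h | h
  · haveI : Subsingleton (Subgroup.center (iso B)) := Finite.card_le_one_iff_subsingleton.1 (by omega)
    infer_instance
  · haveI : Fact (Nat.Prime 2) := ⟨Nat.prime_two⟩
    exact isCyclic_of_prime_card (p := 2) (by omega)

/-- The presented isometry group. -/
theorem bdd_iso {V : Type*} [AddCommGroup V] [Module F V] [FiniteDimensional F V] {B : LinearMap.BilinForm F V}
    {m : ℕ} (hm : 3 ≤ m) (Φ : Cfsg.Lib.Recog.SpAmalgam.Frame B m) (hA : B.IsAlt) (hB : B.Nondegenerate)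
    [Finite (iso B)] : Bdd (iso B) 76 := by
  classical
  obtain ⟨ζ, hζ⟩ := IsCyclic.exists_generator (α := Fˣ)
  have hgen : ∀ x : Fˣ, ∃ i : ℕ, x = ζ ^ i := fun x => by
    obtain ⟨i, hi⟩ := mem_powers_iff_mem_zpowers.2 (hζ x)
    exact ⟨i, hi.symm⟩
  haveI : Fact (ringChar F).Prime := ⟨CharP.char_is_prime F _⟩
  set Q := Idx.std hm with hQdef
  obtain ⟨u, hu⟩ := sl_two_two_gen (F := F)
  obtain ⟨ps, hps, hps'⟩ := point_stab Q.i0
  obtain ⟨qs, hqs, hqs'⟩ := pair_stab Q.h01
  obtain ⟨⟨R2, hR2, he2⟩, -, -⟩ := Cfsg.Agent.S2286.result (F := F)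
  have h2 : Bdd SL(2, F) 9 := ⟨3, R2, hR2, he2⟩
  have hC := h2.coprod (Alt.bdd_alt m)
  have hcyc : Subgroup.closure ({Multiplicative.ofAdd (1 : ZMod (ringChar F))} : Set _) = ⊤ := by
    refine eq_top_iff.2 fun z _ => ?_
    rw [← Subgroup.zpowers_eq_closure, Subgroup.mem_zpowers_iff]
    exact ⟨(z.toAdd.val : ℤ), by
      rw [zpow_natCast, ← ofAdd_nsmul, nsmul_eq_mul, mul_one, ZMod.natCast_zmod_val, ofAdd_toAdd]⟩
  have hY := Bdd.of_gen _ hcyc
  set M := model Φ hA Q ζ hgen with hMdef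
  let ι₁ : Monoid.Coprod SL(2, F) (alternatingGroup (Fin m)) →* iso B := Monoid.Coprod.lift M.A M.Bp
  let ι₂ : Multiplicative (ZMod (ringChar F)) →* iso B :=
    MonoidHom.mk' (fun z => kg hA (Φ.e Q.i0) ((ZMod.castHom (dvd_refl (ringChar F)) F z.toAdd) • Φ.e Q.i1))
      fun z w => by
        rw [kg_mul_kg hA (by simp [Φ.ee]) (by simp [Φ.ee]), toAdd_mul, map_add, add_smul]
        simp [Φ.ee, tvG_zero]
  have hι₂ : ι₂ (Multiplicative.ofAdd (1 : ZMod (ringChar F))) = M.y := by
    show kg hA (Φ.e Q.i0) ((ZMod.castHom (dvd_refl (ringChar F)) F 1) • Φ.e Q.i1) = _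
    rw [map_one, one_smul]
    rfl
  let wA : SL(2, F) → FreeGroup (Monoid.Coprod SL(2, F) (alternatingGroup (Fin m)) ⊕ Multiplicative (ZMod (ringChar F))) :=
    fun g => FreeGroup.of (Sum.inl (Monoid.Coprod.inl g))
  let wB : alternatingGroup (Fin m) →
      FreeGroup (Monoid.Coprod SL(2, F) (alternatingGroup (Fin m)) ⊕ Multiplicative (ZMod (ringChar F))) :=
    fun g => FreeGroup.of (Sum.inl (Monoid.Coprod.inr g))
  let wy : FreeGroup (Monoid.Coprod SL(2, F) (alternatingGroup (Fin m)) ⊕ Multiplicative (ZMod (ringChar F))) :=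
    FreeGroup.of (Sum.inr (Multiplicative.ofAdd 1))
  set L := rels Q ζ wA wB wy u ps qs with hLdef
  have hlen : L.length = 25 := rfl
  refine (hC.combine hY ι₁ ι₂ ?_ L ?_ ?_).mono (by omega)
  · set W := Subgroup.closure (Set.range ι₁ ∪ Set.range ι₂)
    have wA' : ∀ g, M.A g ∈ W := fun g =>
      Subgroup.subset_closure (Or.inl ⟨Monoid.Coprod.inl g, Monoid.Coprod.lift_apply_inl _ _ _⟩)
    have wB' : ∀ g, M.Bp g ∈ W := fun g =>
      Subgroup.subset_closure (Or.inl ⟨Monoid.Coprod.inr g, Monoid.Coprod.lift_apply_inr _ _ _⟩)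
    have wy' : M.y ∈ W := hι₂ ▸ Subgroup.subset_closure (Or.inr ⟨_, rfl⟩)
    refine eq_top_of_pieces Φ hA hB (by omega) Q ζ hgen W (fun a g => ?_) fun i j hij => ?_
    · rw [← model_S Φ hA Q ζ hgen]
      exact mul_mem (mul_mem (wB' _) (wA' g)) (inv_mem (wB' _))
    · rw [← model_Y Φ hA Q ζ hgen (fun e => by subst e; omega)]
      exact mul_mem (mul_mem (wB' _) wy') (inv_mem (wB' _))
  · intro e he
    have hm' : (FreeGroup.lift (Sum.elim ι₁ ι₂) e.1, FreeGroup.lift (Sum.elim ι₁ ι₂) e.2) ∈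
        L.map (fun e => (FreeGroup.lift (Sum.elim ι₁ ι₂) e.1, FreeGroup.lift (Sum.elim ι₁ ι₂) e.2)) :=
      List.mem_map.2 ⟨e, he, rfl⟩
    have hA' : (fun g => FreeGroup.lift (Sum.elim ι₁ ι₂) (wA g)) = M.A := funext fun g => by simp [wA, ι₁]
    have hB' : (fun g => FreeGroup.lift (Sum.elim ι₁ ι₂) (wB g)) = M.Bp := funext fun g => by simp [wB, ι₁]
    have hy' : FreeGroup.lift (Sum.elim ι₁ ι₂) wy = M.y := by simp [wy, hι₂]
    rw [hLdef, map_rels, hA', hB', hy'] at hm'
    exact rels_model Φ hA hgen Q u ps hps qs hqs _ hm'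
  · intro G _ A B' hgenG hr
    let A₀ : SL(2, F) →* G := A.comp Monoid.Coprod.inl
    let B₀ : alternatingGroup (Fin m) →* G := A.comp Monoid.Coprod.inr
    let y : G := B' (Multiplicative.ofAdd 1)
    have hy : y ^ ringChar F = 1 := by
      rw [← map_pow, ← ofAdd_nsmul, nsmul_eq_mul, mul_one, ZMod.natCast_self, ofAdd_zero, map_one]
    have hr' : ∀ e ∈ rels Q ζ A₀ B₀ y u ps qs, e.1 = e.2 := by
      intro e he
      have hA' : (fun g => FreeGroup.lift (Sum.elim A B') (wA g)) = A₀ := funext fun g => by simp [wA, A₀]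
      have hB' : (fun g => FreeGroup.lift (Sum.elim A B') (wB g)) = B₀ := funext fun g => by simp [wB, B₀]
      have hy' : FreeGroup.lift (Sum.elim A B') wy = y := by simp [wy, y]
      rw [← hA', ← hB', ← hy', ← map_rels] at he
      obtain ⟨d, hd, rfl⟩ := List.mem_map.1 he
      exact hr d hd
    obtain ⟨T, hTA, hTB, hTy, hc, hF⟩ := exists_sys hgen u hu ps hps' qs hqs' A₀ B₀ y hy hr'
    obtain ⟨φ, hφ⟩ := exists_surjective Φ hA hm hgen hB (Q := Q) (by simp [hQdef, Idx.std]) T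
      (by rw [hTA, hTB, hTy]; exact hc) hF (by
        rw [hTA, hTB, hTy, eq_top_iff, ← hgenG, Subgroup.closure_le]
        set W := Subgroup.closure (Set.range A₀ ∪ Set.range B₀ ∪ {y})
        rintro _ (⟨c, rfl⟩ | ⟨z, rfl⟩)
        · have h : (⊤ : Subgroup (Monoid.Coprod SL(2, F) (alternatingGroup (Fin m)))) ≤ W.comap A := by
            rw [← Monoid.Coprod.range_inl_sup_range_inr]
            refine sup_le ?_ ?_ <;> rintro _ ⟨g, rfl⟩
            · exact Subgroup.subset_closure (Or.inl (Or.inl ⟨g, rfl⟩))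
            · exact Subgroup.subset_closure (Or.inl (Or.inr ⟨g, rfl⟩))
          exact h (Subgroup.mem_top c)
        · have h : (⊤ : Subgroup (Multiplicative (ZMod (ringChar F)))) ≤ W.comap B' := by
            rw [← hcyc, Subgroup.closure_le, Set.singleton_subset_iff]
            exact Subgroup.subset_closure (Or.inr rfl)
          exact h (Subgroup.mem_top z))
    exact ⟨Finite.of_surjective φ hφ, Nat.card_le_card_of_surjective φ hφ⟩

/-- Two generators and eighty relators. -/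
theorem psp_two_gen {m : ℕ} (hm : 3 ≤ m) {a b : Cfsg.PSp m F}
    (hab : Subgroup.closure ({a, b} : Set (Cfsg.PSp m F)) = ⊤) :
    ∃ rels : Finset (FreeGroup (Fin 2)), rels.card ≤ 80 ∧
      Nonempty (PresentedGroup (↑rels : Set (FreeGroup (Fin 2))) ≃* Cfsg.PSp m F) := by
  classical
  haveI : Finite ↥(Matrix.symplecticGroup (Fin m) F) := inferInstance
  let E : ↥(Matrix.symplecticGroup (Fin m) F) ≃* iso (spB m F) := spEquiv
  haveI : Finite (iso (spB m F)) := Finite.of_equiv _ E.toEquiv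
  have hA := spB_isAlt m F
  have hB := spB_nondegenerate m F
  have h := bdd_iso hm (stdFrame F m) hA hB
  haveI : Nontrivial (Fin m ⊕ Fin m → F) := by
    haveI : Nonempty (Fin m ⊕ Fin m) := ⟨Sum.inl ⟨0, by omega⟩⟩
    infer_instance
  haveI := isCyclic_center hB hA
  haveI : IsCyclic (Subgroup.center ↥(Matrix.symplecticGroup (Fin m) F)) :=
    isCyclic_of_surjective _ (Subgroup.centerCongr E).symm.surjective
  obtain ⟨z, hz⟩ := IsCyclic.exists_generator (α := Subgroup.center ↥(Matrix.symplecticGroup (Fin m) F))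
  have hq := SLN.bdd_quotient (h.of_equiv E.symm) (Subgroup.center ↥(Matrix.symplecticGroup (Fin m) F)) z.1
    (le_antisymm ((Subgroup.closure_le _).2 (Set.singleton_subset_iff.2 z.2)) fun x hx => by
      obtain ⟨k, hk⟩ := Subgroup.mem_zpowers_iff.1 (hz ⟨x, hx⟩)
      have : (z.1 : ↥(Matrix.symplecticGroup (Fin m) F)) ^ k = x := by rw [← Subgroup.coe_zpow, hk]
      rw [← this]
      exact Subgroup.zpow_mem _ (Subgroup.subset_closure (Set.mem_singleton z.1)) k)
  obtain ⟨R, hR, e, -⟩ := Bdd.two_generated (M := Cfsg.PSp m F) hq a b hab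
  exact ⟨R, hR, ⟨e⟩⟩

end Cfsg.Lib.Linear.ShortPres.SpN
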