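import Cfsg.Agent.Lib.Recog.SpAmalgam.Plane
import Cfsg.Agent.Lib.Linear.ShortPres.SLTwo

/-!
# Rank one groups and permutations inside a symplectic group with a frame
-/

set_option autoImplicit false
set_option linter.unusedSectionVars false

namespace Cfsg.Lib.Linear.ShortPres.SpN

open Module
open scoped MatrixGroups
open Cfsg.Lib.Linear.Symp Cfsg.Lib.Recog.SpAmalgam

variable {F V : Type*} [Field F] [AddCommGroup V] [Module F V] [FiniteDimensional F V]
  {B : LinearMap.BilinForm F V} {m : ℕ} (Φ : Frame B m) (hA : B.IsAlt)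

include hA in
/-- Isometries are determined by their values on a frame. -/
theorem iso_ext_frame {g h : iso B} (H : ∀ l, (g : V ≃ₗ[F] V) (Φ.e l) = (h : V ≃ₗ[F] V) (Φ.e l) ∧
    (g : V ≃ₗ[F] V) (Φ.f l) = (h : V ≃ₗ[F] V) (Φ.f l)) : g = h := by
  have h1 : h⁻¹ * g = 1 := Φ.eq_one_of_fix_all hA fun l => by
    constructor
    · rw [mul_apply, (H l).1, ← mul_apply, inv_mul_cancel, one_apply]
    · rw [mul_apply, (H l).2, ← mul_apply, inv_mul_cancel, one_apply]
  exact (inv_mul_eq_one.1 h1).symm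

include hA in
/-- Every system with the frame relations is the image of the frame. -/
theorem exists_iso_frame (E G : Fin m → V) (hee : ∀ i j, B (E i) (E j) = 0) (hgg : ∀ i j, B (G i) (G j) = 0)
    (heg : ∀ i j, B (E i) (G j) = if i = j then 1 else 0) :
    ∃ g : iso B, ∀ l, (g : V ≃ₗ[F] V) (Φ.e l) = E l ∧ (g : V ≃ₗ[F] V) (Φ.f l) = G l := by
  classical
  let T : V →ₗ[F] V :=
    { toFun := fun x => ∑ i, (B x (Φ.f i) • E i - B x (Φ.e i) • G i)
      map_add' := fun x y => by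
        simp only [map_add, LinearMap.add_apply, ← Finset.sum_add_distrib]
        exact Finset.sum_congr rfl fun i _ => by module
      map_smul' := fun c x => by
        simp only [map_smul, LinearMap.smul_apply, smul_eq_mul, RingHom.id_apply, Finset.smul_sum]
        exact Finset.sum_congr rfl fun i _ => by module }
  have hT : ∀ x, T x = ∑ i, (B x (Φ.f i) • E i - B x (Φ.e i) • G i) := fun x => rfl
  have hge : ∀ i j, B (G i) (E j) = -(if j = i then (1 : F) else 0) := fun i j => by rw [skew hA, heg]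
  have he : ∀ l, T (Φ.e l) = E l := fun l => by
    rw [hT]
    simp [Φ.ee, Φ.ef]
  have hf : ∀ l, T (Φ.f l) = G l := fun l => by
    rw [hT]
    simp [Φ.ff, Φ.fe hA]
  have hxE : ∀ x l, B (T x) (E l) = B x (Φ.e l) := fun x l => by
    rw [hT]
    simp [map_sum, LinearMap.sum_apply, hee, hge]
  have hxG : ∀ x l, B (T x) (G l) = B x (Φ.f l) := fun x l => by
    rw [hT]
    simp [map_sum, LinearMap.sum_apply, hgg, heg]
  have hiso : ∀ x y, B (T x) (T y) = B x y := fun x y => by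
    conv_rhs => rw [Φ.expand hA y]
    rw [hT y]
    simp only [map_sum, map_sub, map_smul, smul_eq_mul, hxE, hxG]
  have hinj : Function.Injective T := by
    refine (injective_iff_map_eq_zero T).2 fun x hx => Φ.sep x fun l => ?_
    rw [← hxE x l, ← hxG x l, hx]
    simp
  exact ⟨⟨LinearEquiv.ofInjectiveEndo T hinj, hiso⟩, fun l => ⟨he l, hf l⟩⟩

/-- The image of the first frame vector of the pair `a`. -/
def colE (a : Fin m) (g : SL(2, F)) (l : Fin m) : V :=
  if l = a then g.1 0 0 • Φ.e a + g.1 1 0 • Φ.f a else Φ.e l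

/-- The image of the second frame vector of the pair `a`. -/
def colF (a : Fin m) (g : SL(2, F)) (l : Fin m) : V :=
  if l = a then g.1 0 1 • Φ.e a + g.1 1 1 • Φ.f a else Φ.f l

include hA in
theorem exists_psi (a : Fin m) (g : SL(2, F)) : ∃ x : iso B, ∀ l,
    (x : V ≃ₗ[F] V) (Φ.e l) = colE Φ a g l ∧ (x : V ≃ₗ[F] V) (Φ.f l) = colF Φ a g l := by
  have hd : g.1 0 0 * g.1 1 1 - g.1 0 1 * g.1 1 0 = 1 := by
    rw [← Matrix.det_fin_two]; exact g.2
  refine exists_iso_frame Φ hA _ _ (fun i j => ?_) (fun i j => ?_) (fun i j => ?_)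
  · by_cases hi : i = a <;> by_cases hj : j = a
    · subst hi; subst hj; simp [colE, Φ.ee, Φ.ff, Φ.ef, Φ.fe hA]; ring
    · subst hi; simp [colE, hj, Ne.symm hj, Φ.ee, Φ.ef, Φ.fe hA]
    · subst hj; simp [colE, hi, Ne.symm hi, Φ.ee, Φ.ef, Φ.fe hA]
    · simp [colE, hi, hj, Φ.ee]
  · by_cases hi : i = a <;> by_cases hj : j = a
    · subst hi; subst hj; simp [colF, Φ.ee, Φ.ff, Φ.ef, Φ.fe hA]; ring
    · subst hi; simp [colF, hj, Ne.symm hj, Φ.ff, Φ.ef, Φ.fe hA]
    · subst hj; simp [colF, hi, Ne.symm hi, Φ.ff, Φ.ef, Φ.fe hA]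
    · simp [colF, hi, hj, Φ.ff]
  · by_cases hi : i = a <;> by_cases hj : j = a
    · subst hi; subst hj; simp [colE, colF, Φ.ee, Φ.ff, Φ.ef, Φ.fe hA]; linear_combination hd
    · subst hi; simp [colE, colF, hj, Ne.symm hj, Φ.ee, Φ.ff, Φ.ef, Φ.fe hA]
    · subst hj; simp [colE, colF, hi, Ne.symm hi, Φ.ee, Φ.ff, Φ.ef, Φ.fe hA]
    · simp [colE, colF, hi, hj, Φ.ef]

/-- The rank one group of the pair `a`. -/
noncomputable def psi (a : Fin m) : SL(2, F) →* iso B :=
  MonoidHom.mk' (fun g => (exists_psi Φ hA a g).choose) fun g h => iso_ext_frame Φ hA fun l => by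
    have hg := (exists_psi Φ hA a g).choose_spec
    have hh := (exists_psi Φ hA a h).choose_spec
    have hgh := (exists_psi Φ hA a (g * h)).choose_spec
    rw [(hgh l).1, (hgh l).2, mul_apply, mul_apply, (hh l).1, (hh l).2]
    by_cases hl : l = a
    · subst hl
      have h1 := (hg l).1
      have h2 := (hg l).2
      simp only [colE, colF, if_pos] at h1 h2 ⊢
      rw [map_add, map_smul, map_smul, map_add, map_smul, map_smul, h1, h2]
      simp only [Matrix.SpecialLinearGroup.coe_mul, Matrix.mul_apply, Fin.sum_univ_two]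
      constructor <;> module
    · have h1 := (hg l).1
      have h2 := (hg l).2
      simp only [colE, colF, if_neg hl] at h1 h2 ⊢
      exact ⟨h1.symm, h2.symm⟩

theorem psi_e (a : Fin m) (g : SL(2, F)) :
    (psi Φ hA a g : V ≃ₗ[F] V) (Φ.e a) = g.1 0 0 • Φ.e a + g.1 1 0 • Φ.f a := by
  show ((exists_psi Φ hA a g).choose : V ≃ₗ[F] V) _ = _
  rw [((exists_psi Φ hA a g).choose_spec a).1, colE, if_pos rfl]

theorem psi_f (a : Fin m) (g : SL(2, F)) :
    (psi Φ hA a g : V ≃ₗ[F] V) (Φ.f a) = g.1 0 1 • Φ.e a + g.1 1 1 • Φ.f a := by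
  show ((exists_psi Φ hA a g).choose : V ≃ₗ[F] V) _ = _
  rw [((exists_psi Φ hA a g).choose_spec a).2, colF, if_pos rfl]

theorem psi_e_ne {a l : Fin m} (h : l ≠ a) (g : SL(2, F)) : (psi Φ hA a g : V ≃ₗ[F] V) (Φ.e l) = Φ.e l := by
  show ((exists_psi Φ hA a g).choose : V ≃ₗ[F] V) _ = _
  rw [((exists_psi Φ hA a g).choose_spec l).1, colE, if_neg h]

theorem psi_f_ne {a l : Fin m} (h : l ≠ a) (g : SL(2, F)) : (psi Φ hA a g : V ≃ₗ[F] V) (Φ.f l) = Φ.f l := by
  show ((exists_psi Φ hA a g).choose : V ≃ₗ[F] V) _ = _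
  rw [((exists_psi Φ hA a g).choose_spec l).2, colF, if_neg h]

theorem psi_mem_ss (a : Fin m) (g : SL(2, F)) : psi Φ hA a g ∈ Φ.ss a :=
  fun _ hl => ⟨psi_e_ne Φ hA hl g, psi_f_ne Φ hA hl g⟩

theorem psi_injective (a : Fin m) : Function.Injective (psi Φ hA a) := by
  refine (injective_iff_map_eq_one _).2 fun g hg => ?_
  have he := psi_e Φ hA a g
  have hf := psi_f Φ hA a g
  rw [hg, one_apply] at he hf
  have h00 := congrArg (fun x => B x (Φ.f a)) he
  have h10 := congrArg (fun x => B x (Φ.e a)) he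
  have h01 := congrArg (fun x => B x (Φ.f a)) hf
  have h11 := congrArg (fun x => B x (Φ.e a)) hf
  simp [Φ.ee, Φ.ff, Φ.ef_self, Φ.fe_self hA] at h00 h10 h01 h11
  ext i j
  fin_cases i <;> fin_cases j <;> simp [← h00, h10, h01, h11]

theorem tvG_e_eq (a : Fin m) (c : F) : tvG hA (Φ.e a) c = psi Φ hA a (xs (-c)) :=
  iso_ext_frame Φ hA fun l => by
    by_cases hl : l = a
    · subst hl
      rw [psi_e, psi_f]
      constructor <;> simp [tvG_apply, Φ.ee, Φ.fe_self hA, xs_coe] <;> module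
    · rw [psi_e_ne Φ hA hl, psi_f_ne Φ hA hl]
      constructor <;> simp [tvG_apply, Φ.ee, Φ.fe_ne hA hl]

theorem psi_xs (a : Fin m) (c : F) : psi Φ hA a (xs c) = tvG hA (Φ.e a) (-c) := by
  rw [tvG_e_eq, neg_neg]

/-- The lower unitriangular elements. -/
def xl (c : F) : SL(2, F) := ⟨!![1, 0; c, 1], by simp [Matrix.det_fin_two]⟩

theorem tvG_f_eq (a : Fin m) (c : F) : tvG hA (Φ.f a) c = psi Φ hA a (xl c) :=
  iso_ext_frame Φ hA fun l => by
    by_cases hl : l = a
    · subst hl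
      rw [psi_e, psi_f]
      constructor <;> simp [tvG_apply, Φ.ff, Φ.ef_self, xl]
    · rw [psi_e_ne Φ hA hl, psi_f_ne Φ hA hl]
      constructor <;> simp [tvG_apply, Φ.ff, Φ.ef_ne hl]

theorem range_psi (a : Fin m) : (psi Φ hA a).range = Φ.ss a := by
  refine le_antisymm (fun x hx => ?_) ((Φ.ss_le_pl hA a).trans ((Subgroup.closure_le _).2 ?_))
  · obtain ⟨g, rfl⟩ := hx; exact psi_mem_ss Φ hA a g
  · rintro _ (⟨c, rfl⟩ | ⟨c, rfl⟩)
    · exact ⟨_, (tvG_e_eq Φ hA a c).symm⟩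
    · exact ⟨_, (tvG_f_eq Φ hA a c).symm⟩

include hA in
theorem exists_perm_iso (π : Equiv.Perm (Fin m)) : ∃ x : iso B, ∀ l,
    (x : V ≃ₗ[F] V) (Φ.e l) = Φ.e (π l) ∧ (x : V ≃ₗ[F] V) (Φ.f l) = Φ.f (π l) :=
  exists_iso_frame Φ hA _ _ (fun _ _ => Φ.ee _ _) (fun _ _ => Φ.ff _ _) fun i j => by
    rw [Φ.ef]; simp

/-- Permutations of the frame. -/
noncomputable def perm : Equiv.Perm (Fin m) →* iso B :=
  MonoidHom.mk' (fun π => (exists_perm_iso Φ hA π).choose) fun π σ => iso_ext_frame Φ hA fun l => by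
    have hp := (exists_perm_iso Φ hA π).choose_spec
    have hs := (exists_perm_iso Φ hA σ).choose_spec
    have hps := (exists_perm_iso Φ hA (π * σ)).choose_spec
    rw [(hps l).1, (hps l).2, mul_apply, mul_apply, (hs l).1, (hs l).2, (hp _).1, (hp _).2]
    exact ⟨rfl, rfl⟩

theorem perm_e (π : Equiv.Perm (Fin m)) (l : Fin m) :
    (perm Φ hA π : V ≃ₗ[F] V) (Φ.e l) = Φ.e (π l) := ((exists_perm_iso Φ hA π).choose_spec l).1

theorem perm_f (π : Equiv.Perm (Fin m)) (l : Fin m) :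
    (perm Φ hA π : V ≃ₗ[F] V) (Φ.f l) = Φ.f (π l) := ((exists_perm_iso Φ hA π).choose_spec l).2

theorem perm_conj_psi (π : Equiv.Perm (Fin m)) (a : Fin m) (g : SL(2, F)) :
    perm Φ hA π * psi Φ hA a g * (perm Φ hA π)⁻¹ = psi Φ hA (π a) g := by
  rw [mul_inv_eq_iff_eq_mul]
  refine iso_ext_frame Φ hA fun l => ?_
  simp only [mul_apply, perm_e, perm_f]
  by_cases hl : l = a
  · subst hl
    simp [psi_e, psi_f, perm_e, perm_f]
  · have hl' : π l ≠ π a := π.injective.ne hl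
    simp [psi_e_ne Φ hA hl, psi_f_ne Φ hA hl, psi_e_ne Φ hA hl', psi_f_ne Φ hA hl', perm_e, perm_f]

theorem kg_symm {a v : V} (h : B a v = 0) : kg hA a v = kg hA v a := iso_ext fun x => by
  rw [kg_apply hA h, kg_apply hA (show B v a = 0 by rw [skew hA a v, h, neg_zero])]
  abel

theorem perm_conj_kg (π : Equiv.Perm (Fin m)) (a b : Fin m) :
    perm Φ hA π * kg hA (Φ.e a) (Φ.e b) * (perm Φ hA π)⁻¹ = kg hA (Φ.e (π a)) (Φ.e (π b)) := by
  rw [kg_conj, perm_e, perm_e]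

theorem psi_conj_kg_self {a b : Fin m} (hab : a ≠ b) (g : SL(2, F)) :
    psi Φ hA a g * kg hA (Φ.e a) (Φ.e b) * (psi Φ hA a g)⁻¹ =
      kg hA (g.1 0 0 • Φ.e a + g.1 1 0 • Φ.f a) (Φ.e b) := by
  rw [kg_conj, psi_e, psi_e_ne Φ hA hab.symm]

theorem kg_pow (a v : V) (h : B a v = 0) : ∀ k : ℕ, kg hA a v ^ k = kg hA a ((k : F) • v)
  | 0 => by rw [pow_zero, Nat.cast_zero, zero_smul, kg_zero]
  | k + 1 => by
    rw [pow_succ, kg_pow a v h k, kg_mul_kg hA (by simp [h]) h, Nat.cast_succ, add_smul, one_smul]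
    simp [hA.self_eq_zero, tvG_zero]

end Cfsg.Lib.Linear.ShortPres.SpN
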