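import Cfsg.Agent.Lib.Linear.ShortPres.SpN.Alt
import Cfsg.Agent.Lib.Linear.ShortPres.SLTwo

/-!
# A rank one group, an alternating group and one short root element
-/

set_option autoImplicit false
set_option linter.unusedSectionVars false

namespace Cfsg.Lib.Linear.ShortPres.SpN

open Equiv
open scoped MatrixGroups

/-- Four marked points. -/
structure Idx (m : ℕ) where
  i0 : Fin m
  i1 : Fin m
  i2 : Fin m
  i3 : Fin m
  h01 : i0 ≠ i1
  h02 : i0 ≠ i2
  h12 : i1 ≠ i2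
  h3 : 4 ≤ m → i0 ≠ i3 ∧ i1 ≠ i3 ∧ i2 ≠ i3

variable {m : ℕ}

/-- Four marked points exist. -/
def Idx.std (hm : 3 ≤ m) : Idx m where
  i0 := ⟨0, by omega⟩
  i1 := ⟨1, by omega⟩
  i2 := ⟨2, by omega⟩
  i3 := ⟨min 3 (m - 1), by omega⟩
  h01 := by simp
  h02 := by simp
  h12 := by simp
  h3 h := by simp [Fin.ext_iff]; omega

/-- An unordered pair and a further point. -/
theorem exists_pair_one (Q : Idx m) {a b c : Fin m} (hab : a ≠ b) (hac : a ≠ c) (hbc : b ≠ c) :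
    ∃ π : alternatingGroup (Fin m),
      ((π.1 Q.i0 = a ∧ π.1 Q.i1 = b) ∨ (π.1 Q.i0 = b ∧ π.1 Q.i1 = a)) ∧ π.1 Q.i2 = c := by
  obtain ⟨π₁, e0, e1⟩ := exists_perm_two Q.i0 Q.i1 a b Q.h01 hab
  set π₂ := swap (π₁ Q.i2) c * π₁ with hπ₂
  have f2 : π₂ Q.i2 = c := by simp [hπ₂]
  have f0 : π₂ Q.i0 = a := by
    rw [hπ₂, Perm.mul_apply, e0]
    exact swap_apply_of_ne_of_ne (by rw [← e0]; exact π₁.injective.ne Q.h02) hac
  have f1 : π₂ Q.i1 = b := by
    rw [hπ₂, Perm.mul_apply, e1]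
    exact swap_apply_of_ne_of_ne (by rw [← e1]; exact π₁.injective.ne Q.h12) hbc
  obtain ⟨π, hπ⟩ := SLN.exists_even π₂ Q.h01
  refine ⟨π, ?_⟩
  rcases hπ with h | h <;> rw [h]
  · exact ⟨Or.inl ⟨f0, f1⟩, f2⟩
  · refine ⟨Or.inr ⟨by simp [f1], by simp [f0]⟩, ?_⟩
    rw [Perm.mul_apply, swap_apply_of_ne_of_ne Q.h02.symm Q.h12.symm, f2]

/-- Two disjoint unordered pairs. -/
theorem exists_two_pairs (Q : Idx m) (hm : 4 ≤ m) {a b c d : Fin m} (hab : a ≠ b) (hac : a ≠ c) (had : a ≠ d)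
    (hbc : b ≠ c) (hbd : b ≠ d) (hcd : c ≠ d) : ∃ π : alternatingGroup (Fin m),
      π.1 Q.i0 = a ∧ π.1 Q.i1 = b ∧ ((π.1 Q.i2 = c ∧ π.1 Q.i3 = d) ∨ (π.1 Q.i2 = d ∧ π.1 Q.i3 = c)) := by
  obtain ⟨h03, h13, h23⟩ := Q.h3 hm
  obtain ⟨π₁, e0, e1⟩ := exists_perm_two Q.i0 Q.i1 a b Q.h01 hab
  set π₂ := swap (π₁ Q.i2) c * π₁ with hπ₂
  have f2 : π₂ Q.i2 = c := by simp [hπ₂]
  have f0 : π₂ Q.i0 = a := by
    rw [hπ₂, Perm.mul_apply, e0]
    exact swap_apply_of_ne_of_ne (by rw [← e0]; exact π₁.injective.ne Q.h02) hac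
  have f1 : π₂ Q.i1 = b := by
    rw [hπ₂, Perm.mul_apply, e1]
    exact swap_apply_of_ne_of_ne (by rw [← e1]; exact π₁.injective.ne Q.h12) hbc
  set π₃ := swap (π₂ Q.i3) d * π₂ with hπ₃
  have g3 : π₃ Q.i3 = d := by simp [hπ₃]
  have g0 : π₃ Q.i0 = a := by
    rw [hπ₃, Perm.mul_apply, f0]
    exact swap_apply_of_ne_of_ne (by rw [← f0]; exact π₂.injective.ne h03) had
  have g1 : π₃ Q.i1 = b := by
    rw [hπ₃, Perm.mul_apply, f1]
    exact swap_apply_of_ne_of_ne (by rw [← f1]; exact π₂.injective.ne h13) hbd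
  have g2 : π₃ Q.i2 = c := by
    rw [hπ₃, Perm.mul_apply, f2]
    exact swap_apply_of_ne_of_ne (by rw [← f2]; exact π₂.injective.ne h23) hcd
  obtain ⟨π, hπ⟩ := SLN.exists_even π₃ h23
  refine ⟨π, ?_⟩
  rcases hπ with h | h <;> rw [h]
  · exact ⟨g0, g1, Or.inl ⟨g2, g3⟩⟩
  · refine ⟨?_, ?_, Or.inr ⟨by simp [g3], by simp [g2]⟩⟩
    · rw [Perm.mul_apply, swap_apply_of_ne_of_ne Q.h02 h03, g0]
    · rw [Perm.mul_apply, swap_apply_of_ne_of_ne Q.h12 h13, g1]

/-- The chosen transporter of a point. -/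
noncomputable def piA (Q : Idx m) (a : Fin m) : alternatingGroup (Fin m) :=
  (exists_one Q.h01 Q.h02 Q.h12 a).choose

theorem piA_apply (Q : Idx m) (a : Fin m) : (piA Q a).1 Q.i0 = a := (exists_one Q.h01 Q.h02 Q.h12 a).choose_spec

open Classical in
/-- The chosen transporter of a pair. -/
noncomputable def piY (Q : Idx m) (a b : Fin m) : alternatingGroup (Fin m) :=
  if h : a ≠ b then (exists_pair Q.h01 h).choose else 1

theorem piY_apply (Q : Idx m) {a b : Fin m} (h : a ≠ b) :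
    ((piY Q a b).1 Q.i0 = a ∧ (piY Q a b).1 Q.i1 = b) ∨ ((piY Q a b).1 Q.i0 = b ∧ (piY Q a b).1 Q.i1 = a) := by
  rw [piY, dif_pos h]
  exact (exists_pair Q.h01 h).choose_spec

variable {F : Type*} [Field F]

section Formulas

variable {G : Type*} [Group G] (Q : Idx m) (A : SL(2, F) → G) (Bp : alternatingGroup (Fin m) → G) (y : G)

/-- The rank one element at `a`. -/
noncomputable def fS (a : Fin m) (g : SL(2, F)) : G := Bp (piA Q a) * A g * (Bp (piA Q a))⁻¹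

/-- The short root element at a pair. -/
noncomputable def fY (a b : Fin m) : G := Bp (piY Q a b) * y * (Bp (piY Q a b))⁻¹

/-- The element `e ↦ s f`. -/
def gsf (s : Fˣ) : SL(2, F) := ⟨!![0, -((s⁻¹ : Fˣ) : F); (s : F), 0], by simp [Matrix.det_fin_two]⟩

/-- The element `e ↦ e + s f`. -/
def gef (s : F) : SL(2, F) := ⟨!![1, 0; s, 1], by simp [Matrix.det_fin_two]⟩

/-- A rotated short root element. -/
noncomputable def fPhi (a b : Fin m) (g : SL(2, F)) : G := fS Q A Bp a g * fY Q Bp y a b * (fS Q A Bp a g)⁻¹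

end Formulas

/-- The relations. -/
structure Sys (Q : Idx m) (ζ : Fˣ) (P : Type*) [Group P] where
  hgen : ∀ x : Fˣ, ∃ i : ℕ, x = ζ ^ i
  A : SL(2, F) →* P
  Bp : alternatingGroup (Fin m) →* P
  y : P
  ypow : y ^ ringChar F = 1
  fixA : ∀ π : alternatingGroup (Fin m), π.1 Q.i0 = Q.i0 → ∀ g, Commute (Bp π) (A g)
  fixY : ∀ π : alternatingGroup (Fin m),
    ((π.1 Q.i0 = Q.i0 ∧ π.1 Q.i1 = Q.i1) ∨ (π.1 Q.i0 = Q.i1 ∧ π.1 Q.i1 = Q.i0)) → Commute (Bp π) y
  comm01 : ∀ g h, Commute (A g) (fS Q A Bp Q.i1 h)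
  tor : ∀ r : Fˣ, Commute (A (ds r) * (fS Q A Bp Q.i1 (ds r))⁻¹) y
  uni0 : Commute (A (xs 1)) y
  uni1 : Commute (fS Q A Bp Q.i1 (xs 1)) y
  ys2 : ∀ g, Commute y (fS Q A Bp Q.i2 g)
  yy1 : Commute y (fY Q Bp y Q.i1 Q.i2)
  yy2 : 4 ≤ m → Commute y (fY Q Bp y Q.i2 Q.i3)
  r5a : ∀ s : Fˣ, s = 1 ∨ s = ζ → fY Q Bp y Q.i0 Q.i1 * fPhi Q A Bp y Q.i0 Q.i1 (gsf s) =
    fS Q A Bp Q.i1 (xs (s : F)) * fPhi Q A Bp y Q.i0 Q.i1 (gef (s : F))
  r5b : ∀ s : Fˣ, s = 1 ∨ s = ζ → fY Q Bp y Q.i1 Q.i0 * fPhi Q A Bp y Q.i1 Q.i0 (gsf s) =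
    fS Q A Bp Q.i0 (xs (s : F)) * fPhi Q A Bp y Q.i1 Q.i0 (gef (s : F))

namespace Sys

variable {Q : Idx m} {ζ : Fˣ} {P : Type*} [Group P] (T : Sys Q ζ P)

/-- The rank one group at `a`. -/
noncomputable def S (a : Fin m) : SL(2, F) →* P :=
  (MulAut.conj (T.Bp (piA Q a))).toMonoidHom.comp T.A

theorem S_apply (a : Fin m) (g : SL(2, F)) : T.S a g = fS Q T.A T.Bp a g := rfl

/-- The short root element at a pair. -/
noncomputable def Y (a b : Fin m) : P := fY Q T.Bp T.y a b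

/-- Conjugation by a permutation. -/
noncomputable def cB (π : alternatingGroup (Fin m)) : P →* P := (MulAut.conj (T.Bp π)).toMonoidHom

theorem cB_apply (π : alternatingGroup (Fin m)) (x : P) : T.cB π x = T.Bp π * x * (T.Bp π)⁻¹ := rfl

theorem S_eq {π : alternatingGroup (Fin m)} {a : Fin m} (h : π.1 Q.i0 = a) (g : SL(2, F)) :
    T.S a g = T.cB π (T.A g) := by
  have h2 := T.fixA (π⁻¹ * piA Q a) (by
    rw [Subgroup.coe_mul, Perm.mul_apply, piA_apply, Subgroup.coe_inv, Perm.inv_eq_iff_eq, h]) g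
  have h3 : T.Bp (π⁻¹ * piA Q a) * T.A g * (T.Bp (π⁻¹ * piA Q a))⁻¹ = T.A g := h2.mul_inv_cancel
  show T.Bp (piA Q a) * T.A g * (T.Bp (piA Q a))⁻¹ = T.cB π (T.A g)
  conv_rhs => rw [← h3]
  simp only [cB_apply, map_mul, map_inv]
  group

theorem Y_eq {π : alternatingGroup (Fin m)} {a b : Fin m} (hab : a ≠ b)
    (h : (π.1 Q.i0 = a ∧ π.1 Q.i1 = b) ∨ (π.1 Q.i0 = b ∧ π.1 Q.i1 = a)) : T.Y a b = T.cB π T.y := by
  have h2 := T.fixY (π⁻¹ * piY Q a b) (by
    simp only [Subgroup.coe_mul, Perm.mul_apply, Subgroup.coe_inv, Perm.inv_eq_iff_eq]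
    rcases piY_apply Q hab with ⟨e0, e1⟩ | ⟨e0, e1⟩ <;> rw [e0, e1] <;>
      rcases h with ⟨k0, k1⟩ | ⟨k0, k1⟩ <;> simp [← k0, ← k1])
  have h3 : T.Bp (π⁻¹ * piY Q a b) * T.y * (T.Bp (π⁻¹ * piY Q a b))⁻¹ = T.y := h2.mul_inv_cancel
  show T.Bp (piY Q a b) * T.y * (T.Bp (piY Q a b))⁻¹ = T.cB π T.y
  conv_rhs => rw [← h3]
  simp only [cB_apply, map_mul, map_inv]
  group

theorem cB_cB (π σ : alternatingGroup (Fin m)) (x : P) : T.cB π (T.cB σ x) = T.cB (π * σ) x := by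
  simp only [cB_apply]
  rw [map_mul]
  group

theorem S_conj (π : alternatingGroup (Fin m)) (a : Fin m) (g : SL(2, F)) :
    T.cB π (T.S a g) = T.S (π.1 a) g := by
  rw [T.S_eq (piA_apply Q a), T.cB_cB, ← T.S_eq]
  rw [Subgroup.coe_mul, Perm.mul_apply, piA_apply]

theorem Y_conj (π : alternatingGroup (Fin m)) {a b : Fin m} (hab : a ≠ b) :
    T.cB π (T.Y a b) = T.Y (π.1 a) (π.1 b) := by
  rw [T.Y_eq hab (piY_apply Q hab), T.cB_cB, ← T.Y_eq (π.1.injective.ne hab)]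
  simp only [Subgroup.coe_mul, Perm.mul_apply]
  rcases piY_apply Q hab with ⟨e0, e1⟩ | ⟨e0, e1⟩ <;> simp [e0, e1]

theorem Y_comm {a b : Fin m} (hab : a ≠ b) : T.Y a b = T.Y b a := by
  rw [T.Y_eq hab (piY_apply Q hab), ← T.Y_eq hab.symm (piY_apply Q hab).symm]

theorem S_zero (g : SL(2, F)) : T.S Q.i0 g = T.A g := by
  rw [T.S_eq (π := 1) (a := Q.i0) rfl]
  simp [cB_apply]

theorem Y_zero : T.Y Q.i0 Q.i1 = T.y := by
  rw [T.Y_eq Q.h01 (π := 1) (Or.inl ⟨rfl, rfl⟩)]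
  simp [cB_apply]

theorem commute_SS {a b : Fin m} (hab : a ≠ b) (g h : SL(2, F)) : Commute (T.S a g) (T.S b h) := by
  obtain ⟨π, hπ⟩ := exists_pair Q.h01 hab
  rcases hπ with ⟨e0, e1⟩ | ⟨e0, e1⟩
  · have := (T.comm01 g h).map (T.cB π)
    rwa [← T.S_eq e0, ← T.S_apply, T.S_conj, e1] at this
  · have := (T.comm01 h g).map (T.cB π)
    rw [← T.S_eq e0, ← T.S_apply, T.S_conj, e1] at this
    exact this.symm

theorem S_ds_pow (a : Fin m) (i : ℕ) : T.S a (ds (ζ ^ i)) = T.S a (ds ζ) ^ i := by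
  rw [ds_pow, map_pow]

theorem Y_pow {a b : Fin m} (hab : a ≠ b) : T.Y a b ^ ringChar F = 1 := by
  rw [T.Y_eq hab (piY_apply Q hab), ← map_pow, T.ypow, map_one]

theorem commute_tor {a b : Fin m} (hab : a ≠ b) (r : Fˣ) :
    Commute (T.S a (ds r) * (T.S b (ds r))⁻¹) (T.Y a b) := by
  obtain ⟨π, hπ⟩ := exists_pair Q.h01 hab
  have h := (T.tor r).map (T.cB π)
  rw [← T.Y_eq hab hπ, map_mul, map_inv, ← T.S_apply, T.S_conj] at h
  rcases hπ with ⟨e0, e1⟩ | ⟨e0, e1⟩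
  · rwa [← T.S_eq e0, e1] at h
  · rw [← T.S_eq e0, e1] at h
    have := h.inv_left
    rwa [mul_inv_rev, inv_inv] at this

/-- Rotating by the torus at either end is the same. -/
theorem tor_swap {a b : Fin m} (hab : a ≠ b) (r : Fˣ) :
    T.S a (ds r) * T.Y a b * (T.S a (ds r))⁻¹ = T.S b (ds r) * T.Y a b * (T.S b (ds r))⁻¹ := by
  have hc := ((T.commute_SS hab (ds r) (ds r)).inv_right).eq
  calc T.S a (ds r) * T.Y a b * (T.S a (ds r))⁻¹
      = T.S b (ds r) * ((T.S b (ds r))⁻¹ * T.S a (ds r) * T.Y a b) * (T.S a (ds r))⁻¹ := by group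
    _ = T.S b (ds r) * (T.Y a b * (T.S a (ds r) * (T.S b (ds r))⁻¹)) * (T.S a (ds r))⁻¹ := by
        rw [← hc, (T.commute_tor hab r).eq]
    _ = T.S b (ds r) * (T.Y a b * ((T.S b (ds r))⁻¹ * T.S a (ds r))) * (T.S a (ds r))⁻¹ := by rw [hc]
    _ = _ := by group

variable [Fintype F]

/-- An additive set with all squares is everything. -/
theorem all_of_sq (W : F → Prop) (h0 : W 0) (hadd : ∀ x y, W x → W y → W (x + y))
    (hsq : ∀ x, x ≠ 0 → W (x * x)) (c : F) : W c := by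
  have hsq' : ∀ x, W (x * x) := fun x => by
    rcases eq_or_ne x 0 with rfl | hx
    · rw [mul_zero]; exact h0
    · exact hsq x hx
  obtain ⟨a, b, h⟩ : ∃ a b : F, c = a * a + b * b := by
    by_cases h2 : ringChar F = 2
    · obtain ⟨a, ha⟩ := FiniteField.isSquare_of_char_two h2 c
      exact ⟨a, 0, by simp [ha]⟩
    · obtain ⟨a, b, hab⟩ := FiniteField.exists_root_sum_quadratic (R := F)
        (f := Polynomial.X ^ 2) (g := Polynomial.X ^ 2 - Polynomial.C c) (Polynomial.degree_X_pow 2)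
        (Polynomial.degree_X_pow_sub_C (by norm_num) c) (FiniteField.odd_card_of_char_ne_two h2)
      simp at hab
      exact ⟨a, b, by linear_combination -hab⟩
  rw [h]
  exact hadd _ _ (hsq' a) (hsq' b)

/-- The upper unitriangular elements at either end fix the short root element. -/
theorem commute_xs_Y {a b : Fin m} (hab : a ≠ b) (c : F) : Commute (T.S a (xs c)) (T.Y a b) := by
  have h1 : Commute (T.S a (xs 1)) (T.Y a b) := by
    obtain ⟨π, hπ⟩ := exists_pair Q.h01 hab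
    rcases hπ with ⟨e0, e1⟩ | ⟨e0, e1⟩
    · have := T.uni0.map (T.cB π)
      rwa [← T.S_eq e0, ← T.Y_eq hab (Or.inl ⟨e0, e1⟩)] at this
    · have := T.uni1.map (T.cB π)
      rwa [← T.S_apply, T.S_conj, e1, ← T.Y_eq hab (Or.inr ⟨e0, e1⟩)] at this
  refine all_of_sq (fun c => Commute (T.S a (xs c)) (T.Y a b)) ?_ (fun x z hx hz => ?_) (fun x hx => ?_) c
  · rw [xs_zero, map_one]; exact Commute.one_left _
  · rw [xs_add, map_mul]; exact hx.mul_left hz
  · set r := Units.mk0 x hx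
    set τ := T.S a (ds r) * (T.S b (ds r))⁻¹
    have h2 := h1.map (MulAut.conj τ).toMonoidHom
    simp only [MulEquiv.coe_toMonoidHom, MulAut.conj_apply] at h2
    rw [show τ * T.S a (xs 1) * τ⁻¹ = T.S a (xs (x * x)) by
      rw [show x * x = (r : F) ^ 2 * 1 by simp [r, pow_two], ← ds_conj, map_mul, map_mul, map_inv]
      calc τ * T.S a (xs 1) * τ⁻¹
          = T.S a (ds r) * ((T.S b (ds r))⁻¹ * T.S a (xs 1)) * T.S b (ds r) * (T.S a (ds r))⁻¹ := by
            simp only [τ]; group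
        _ = _ := by rw [← ((T.commute_SS hab (xs 1) (ds r)).inv_right).eq]; group,
      (T.commute_tor hab r).mul_inv_cancel] at h2
    exact h2

theorem commute_YS {a b c : Fin m} (hab : a ≠ b) (hac : a ≠ c) (hbc : b ≠ c) (g : SL(2, F)) :
    Commute (T.Y a b) (T.S c g) := by
  obtain ⟨π, hπ, e2⟩ := exists_pair_one Q hab hac hbc
  have := (T.ys2 g).map (T.cB π)
  rwa [← T.Y_eq hab hπ, ← T.S_apply, T.S_conj, e2] at this

theorem commute_Y1 {a b c : Fin m} (hab : a ≠ b) (hac : a ≠ c) (hbc : b ≠ c) :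
    Commute (T.Y a b) (T.Y b c) := by
  obtain ⟨π, hπ⟩ := exists_triple Q.h01 Q.h02 Q.h12 hab hac hbc
  have := T.yy1.map (T.cB π)
  change Commute (T.cB π T.y) (T.cB π (T.Y Q.i1 Q.i2)) at this
  rw [T.Y_conj π Q.h12] at this
  rcases hπ with ⟨e0, e1, e2⟩ | ⟨e0, e1, e2⟩
  · rwa [← T.Y_eq hab (Or.inl ⟨e0, e1⟩), e1, e2] at this
  · rw [← T.Y_eq hbc.symm (Or.inl ⟨e0, e1⟩), e1, e2, T.Y_comm hbc.symm, T.Y_comm hab.symm] at this
    exact this.symm

theorem commute_Y2 {a b c d : Fin m} (hab : a ≠ b) (hac : a ≠ c) (had : a ≠ d) (hbc : b ≠ c) (hbd : b ≠ d)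
    (hcd : c ≠ d) : Commute (T.Y a b) (T.Y c d) := by
  have hm : 4 ≤ m := by
    have h := Finset.card_le_univ ({a, b, c, d} : Finset (Fin m))
    rw [Finset.card_insert_of_notMem (by simp [hab, hac, had]), Finset.card_insert_of_notMem (by simp [hbc, hbd]),
      Finset.card_pair hcd, Fintype.card_fin] at h
    omega
  obtain ⟨π, e0, e1, hπ⟩ := exists_two_pairs Q hm hab hac had hbc hbd hcd
  have := (T.yy2 hm).map (T.cB π)
  change Commute (T.cB π T.y) (T.cB π (T.Y Q.i2 Q.i3)) at this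
  rw [T.Y_conj π (Q.h3 hm).2.2, ← T.Y_eq hab (Or.inl ⟨e0, e1⟩)] at this
  rcases hπ with ⟨e2, e3⟩ | ⟨e2, e3⟩ <;> rw [e2, e3] at this
  · exact this
  · rwa [T.Y_comm hcd.symm] at this

open Classical in
/-- An element with given first column. -/
noncomputable def gv (x z : F) : SL(2, F) :=
  if hx : x ≠ 0 then ⟨!![x, 0; z, x⁻¹], by simp [Matrix.det_fin_two, hx]⟩
  else if hz : z ≠ 0 then ⟨!![0, -z⁻¹; z, 0], by simp [Matrix.det_fin_two, hz]⟩ else 1

omit [Fintype F] in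
theorem gv_col {x z : F} (h : x ≠ 0 ∨ z ≠ 0) : (gv x z).1 0 0 = x ∧ (gv x z).1 1 0 = z := by
  by_cases hx : x = 0
  · have hz : z ≠ 0 := by simpa [hx] using h
    simp [gv, hx, hz]
  · simp [gv, hx]

omit [Fintype F] in
theorem col_ne (g : SL(2, F)) : g.1 0 0 ≠ 0 ∨ g.1 1 0 ≠ 0 := by
  by_contra h
  push Not at h
  have hd : g.1.det = 1 := g.2
  rw [Matrix.det_fin_two, h.1, h.2] at hd
  simp at hd

omit [Fintype F] in
theorem sl_stab (g : SL(2, F)) (h0 : g.1 0 0 = 1) (h1 : g.1 1 0 = 0) : g = xs (g.1 0 1) := by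
  have hd : g.1.det = 1 := g.2
  rw [Matrix.det_fin_two, h0, h1] at hd
  ext i j
  fin_cases i <;> fin_cases j <;> simp [xs_coe, h0, h1] <;> linear_combination hd

open Classical in
/-- The short root element of a vector in the plane `a` towards `b`. -/
noncomputable def phi (a b : Fin m) (x z : F) : P :=
  if x = 0 ∧ z = 0 then 1 else T.S a (gv x z) * T.Y a b * (T.S a (gv x z))⁻¹

theorem phi_zero (a b : Fin m) : T.phi a b 0 0 = 1 := by simp [phi]

theorem phi_eq {a b : Fin m} (hab : a ≠ b) (g : SL(2, F)) :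
    T.phi a b (g.1 0 0) (g.1 1 0) = T.S a g * T.Y a b * (T.S a g)⁻¹ := by
  have hne := col_ne g
  rw [phi, if_neg (by tauto)]
  obtain ⟨c0, c1⟩ := gv_col hne
  set k := gv (g.1 0 0) (g.1 1 0)
  have hk : ∀ i : Fin 2, (g⁻¹ * k).1 i 0 = (g⁻¹ * g).1 i 0 := fun i => by
    simp only [Matrix.SpecialLinearGroup.coe_mul, Matrix.mul_apply, Fin.sum_univ_two, c0, c1]
  have hs := sl_stab (g⁻¹ * k) (by rw [hk, inv_mul_cancel]; rfl) (by rw [hk, inv_mul_cancel]; rfl)
  have hc := (T.commute_xs_Y hab ((g⁻¹ * k).1 0 1)).mul_inv_cancel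
  rw [← hs] at hc
  conv_rhs => rw [← hc]
  simp only [map_mul, map_inv]
  group

theorem phi_one {a b : Fin m} (hab : a ≠ b) : T.phi a b 1 0 = T.Y a b := by
  simpa using T.phi_eq hab 1

theorem phi_line {a b : Fin m} (hab : a ≠ b) (r : Fˣ) :
    T.phi a b r 0 = T.S a (ds r) * T.Y a b * (T.S a (ds r))⁻¹ := by
  simpa [ds_coe] using T.phi_eq hab (ds r)

theorem phi_act {a b : Fin m} (hab : a ≠ b) (g : SL(2, F)) (x z : F) :
    T.S a g * T.phi a b x z * (T.S a g)⁻¹ =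
      T.phi a b (g.1 0 0 * x + g.1 0 1 * z) (g.1 1 0 * x + g.1 1 1 * z) := by
  by_cases h : x = 0 ∧ z = 0
  · simp [h.1, h.2, phi_zero]
  obtain ⟨c0, c1⟩ := gv_col (show x ≠ 0 ∨ z ≠ 0 by tauto)
  have e := T.phi_eq hab (g * gv x z)
  simp only [Matrix.SpecialLinearGroup.coe_mul, Matrix.mul_apply, Fin.sum_univ_two, c0, c1] at e
  rw [e, phi, if_neg h, map_mul]
  group

theorem commute_phi {a b : Fin m} (hab : a ≠ b) {t : P} (hS : ∀ g, Commute t (T.S a g))
    (hY : Commute t (T.Y a b)) (x z : F) : Commute t (T.phi a b x z) := by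
  unfold phi
  split
  · exact Commute.one_right _
  · exact ((hS _).mul_right hY).mul_right (hS _).inv_right

theorem phi_scale {a b : Fin m} (hab : a ≠ b) (r : Fˣ) (x z : F) :
    T.S b (ds r) * T.phi a b x z * (T.S b (ds r))⁻¹ = T.phi a b (r * x) (r * z) := by
  by_cases h : x = 0 ∧ z = 0
  · simp [h.1, h.2, phi_zero]
  obtain ⟨c0, c1⟩ := gv_col (show x ≠ 0 ∨ z ≠ 0 by tauto)
  have e := T.phi_eq hab (gv x z * ds r)
  simp [Matrix.SpecialLinearGroup.coe_mul, Matrix.mul_apply, Fin.sum_univ_two, c0, c1, ds_coe] at e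
  rw [mul_comm (r : F) x, mul_comm (r : F) z, e, phi, if_neg h]
  have hc := (T.commute_SS hab (gv x z) (ds r)).eq
  calc _ = (T.S b (ds r) * T.S a (gv x z)) * T.Y a b * (T.S b (ds r) * T.S a (gv x z))⁻¹ := by group
    _ = T.S a (gv x z) * (T.S b (ds r) * T.Y a b * (T.S b (ds r))⁻¹) * (T.S a (gv x z))⁻¹ := by
        rw [← hc]; group
    _ = _ := by rw [← T.tor_swap hab]; group

theorem phi_swap_line {a b : Fin m} (hab : a ≠ b) (x : F) : T.phi a b x 0 = T.phi b a x 0 := by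
  rcases eq_or_ne x 0 with rfl | hx
  · rw [phi_zero, phi_zero]
  have h1 := T.phi_line hab (Units.mk0 x hx)
  have h2 := T.phi_line hab.symm (Units.mk0 x hx)
  rw [Units.val_mk0] at h1 h2
  rw [h1, h2, T.tor_swap hab, T.Y_comm hab]

theorem phi_base {a b : Fin m} (hab : a ≠ b) (s : Fˣ) (hs : s = 1 ∨ s = ζ) :
    T.phi a b 1 0 * T.phi a b 0 s = T.S b (xs (s : F)) * T.phi a b 1 s := by
  have e1 := T.phi_eq hab (gsf s)
  have e2 := T.phi_eq hab (gef (s : F))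
  rw [show (gsf s).1 0 0 = 0 from rfl, show (gsf s).1 1 0 = (s : F) from rfl] at e1
  rw [show (gef (s : F)).1 0 0 = 1 from rfl, show (gef (s : F)).1 1 0 = (s : F) from rfl] at e2
  rw [T.phi_one hab, e1, e2]
  obtain ⟨π, hπ⟩ := exists_pair Q.h01 hab
  rcases hπ with ⟨f0, f1⟩ | ⟨f0, f1⟩
  · have h := congrArg (T.cB π) (T.r5a s hs)
    simp only [fPhi, ← T.S_apply, map_mul, map_inv, T.S_conj] at h
    change T.cB π (T.Y Q.i0 Q.i1) * (_ * T.cB π (T.Y Q.i0 Q.i1) * _) =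
      _ * (_ * T.cB π (T.Y Q.i0 Q.i1) * _) at h
    rw [T.Y_conj π Q.h01, f0, f1] at h
    exact h
  · have h := congrArg (T.cB π) (T.r5b s hs)
    simp only [fPhi, ← T.S_apply, map_mul, map_inv, T.S_conj] at h
    change T.cB π (T.Y Q.i1 Q.i0) * (_ * T.cB π (T.Y Q.i1 Q.i0) * _) =
      _ * (_ * T.cB π (T.Y Q.i1 Q.i0) * _) at h
    rw [T.Y_conj π Q.h01.symm, f0, f1] at h
    exact h

theorem phi_add_ne {a b : Fin m} (hab : a ≠ b) {x z x' z' : F} (hd : x * z' - z * x' ≠ 0) :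
    T.phi a b x z * T.phi a b x' z' = T.S b (xs (x * z' - z * x')) * T.phi a b (x + x') (z + z') := by
  obtain ⟨r, s, hs, hrs⟩ : ∃ (r s : Fˣ), (s = 1 ∨ s = ζ) ∧ x * z' - z * x' = (r : F) ^ 2 * s := by
    obtain ⟨i, hi⟩ := T.hgen (Units.mk0 _ hd)
    have hi' := congrArg Units.val hi
    rw [Units.val_mk0, Units.val_pow_eq_pow_val] at hi'
    rcases Nat.even_or_odd' i with ⟨k, rfl | rfl⟩
    · exact ⟨ζ ^ k, 1, Or.inl rfl, by rw [hi', Units.val_pow_eq_pow_val, Units.val_one, mul_one]; ring⟩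
    · exact ⟨ζ ^ k, ζ, Or.inr rfl, by rw [hi', Units.val_pow_eq_pow_val]; ring⟩
  have hr : (r : F) ≠ 0 := r.ne_zero
  have hs0 : (s : F) ≠ 0 := s.ne_zero
  let g : SL(2, F) := ⟨!![x / r, x' / (r * s); z / r, z' / (r * s)], by
    rw [Matrix.det_fin_two]
    simp
    field_simp
    linear_combination hrs⟩
  have hb := congrArg (fun u => T.S a g * (T.S b (ds r) * u * (T.S b (ds r))⁻¹) * (T.S a g)⁻¹)
    (T.phi_base hab s hs)
  have key : ∀ u v : P, T.S a g * (T.S b (ds r) * (u * v) * (T.S b (ds r))⁻¹) * (T.S a g)⁻¹ =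
      (T.S a g * (T.S b (ds r) * u * (T.S b (ds r))⁻¹) * (T.S a g)⁻¹) *
      (T.S a g * (T.S b (ds r) * v * (T.S b (ds r))⁻¹) * (T.S a g)⁻¹) := fun u v => by group
  rw [key, key, ← map_inv, ← map_mul, ← map_mul, ds_conj,
    ((T.commute_SS hab g (xs ((r : F) ^ 2 * (s : F))))).mul_inv_cancel, map_inv, ← hrs] at hb
  simp only [T.phi_scale hab, T.phi_act hab] at hb
  convert hb using 3 <;> simp [g] <;> field_simp <;> ring

theorem line_add_ne {a b : Fin m} (hab : a ≠ b) {x y' : F} (hx : x ≠ 0) (hy : y' ≠ 0) (hxy : x + y' ≠ 0) :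
    T.phi a b x 0 * T.phi a b y' 0 = T.phi a b (x + y') 0 := by
  have h1 := T.phi_add_ne hab (x := y') (z := -1) (x' := 0) (z' := 1) (by simpa using hy)
  have h2 := T.phi_add_ne hab (x := x) (z := 0) (x' := y') (z' := -1) (by simpa using hx)
  have h3 := T.phi_add_ne hab (x := x + y') (z := -1) (x' := 0) (z' := 1) (by simpa using hxy)
  simp only [add_zero, zero_add, neg_add_cancel, mul_one, mul_zero, sub_zero, zero_mul, mul_neg] at h1 h2 h3
  have hc : Commute (T.S b (xs y')) (T.phi a b x 0) :=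
    T.commute_phi hab (fun g => T.commute_SS hab.symm _ g)
      (by rw [T.Y_comm hab]; exact T.commute_xs_Y hab.symm y') x 0
  have e : T.phi a b y' 0 = (T.S b (xs y'))⁻¹ * (T.phi a b y' (-1) * T.phi a b 0 1) := by
    rw [h1]; group
  have hn : T.S b (xs (-x)) * T.S b (xs (x + y')) = T.S b (xs y') := by
    rw [← map_mul, ← xs_add, neg_add_cancel_left]
  calc T.phi a b x 0 * T.phi a b y' 0
      = (T.S b (xs y'))⁻¹ * ((T.phi a b x 0 * T.phi a b y' (-1)) * T.phi a b 0 1) := by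
        rw [e, ← mul_assoc, ← mul_assoc, ← mul_assoc, ← mul_assoc, (hc.inv_left).eq]
    _ = (T.S b (xs y'))⁻¹ * (T.S b (xs (-x)) * (T.phi a b (x + y') (-1) * T.phi a b 0 1)) := by
        rw [h2, mul_assoc (T.S b _)]
    _ = _ := by rw [h3, ← mul_assoc (T.S b (xs (-x))), hn]; group

theorem line_neg {a b : Fin m} (hab : a ≠ b) (x : F) : T.phi a b x 0 * T.phi a b (-x) 0 = 1 := by
  rcases eq_or_ne x 0 with rfl | hx
  · simp [phi_zero]
  have hp : (ringChar F).Prime := CharP.char_is_prime F _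
  have hk : ∀ k : ℕ, k < ringChar F → T.Y a b ^ k = T.phi a b (k : F) 0 := by
    intro k
    induction k with
    | zero => intro _; simp [phi_zero]
    | succ k ih =>
      intro hk
      rw [pow_succ, ih (by omega)]
      rcases Nat.eq_zero_or_pos k with rfl | hk0
      · simp [phi_zero, T.phi_one hab]
      have hne : ∀ j, 0 < j → j < ringChar F → (j : F) ≠ 0 := fun j h1 h2 h => by
        have := Nat.le_of_dvd h1 ((CharP.cast_eq_zero_iff F (ringChar F) j).1 h)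
        omega
      rw [← T.phi_one hab, T.line_add_ne hab (hne k hk0 (by omega)) one_ne_zero
        (by rw [← Nat.cast_succ]; exact hne _ (by omega) hk), Nat.cast_succ]
  have h1 : T.phi a b 1 0 * T.phi a b (-1) 0 = 1 := by
    have h := hk (ringChar F - 1) (by have := hp.pos; omega)
    rw [Nat.cast_sub hp.one_lt.le, ringChar.Nat.cast_ringChar, Nat.cast_one, zero_sub] at h
    rw [T.phi_one hab, ← h, ← pow_succ', Nat.sub_add_cancel hp.one_lt.le, T.Y_pow hab]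
  have h2 := congrArg (fun u => T.S b (ds (Units.mk0 x hx)) * u * (T.S b (ds (Units.mk0 x hx)))⁻¹) h1
  simp only [mul_one, mul_inv_cancel] at h2
  calc T.phi a b x 0 * T.phi a b (-x) 0 = T.phi a b ((Units.mk0 x hx : Fˣ) * 1) ((Units.mk0 x hx : Fˣ) * 0) *
        T.phi a b ((Units.mk0 x hx : Fˣ) * (-1)) ((Units.mk0 x hx : Fˣ) * 0) := by simp
    _ = _ := by rw [← T.phi_scale hab, ← T.phi_scale hab, ← h2]; group

theorem line_add {a b : Fin m} (hab : a ≠ b) (x y' : F) :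
    T.phi a b x 0 * T.phi a b y' 0 = T.phi a b (x + y') 0 := by
  rcases eq_or_ne x 0 with rfl | hx
  · simp [phi_zero]
  rcases eq_or_ne y' 0 with rfl | hy
  · simp [phi_zero]
  by_cases hxy : x + y' = 0
  · obtain rfl : y' = -x := by linear_combination hxy
    rw [T.line_neg hab, add_neg_cancel, phi_zero]
  · exact T.line_add_ne hab hx hy hxy

/-- The twisted addition in the plane. -/
theorem phi_add {a b : Fin m} (hab : a ≠ b) (x z x' z' : F) :
    T.phi a b x z * T.phi a b x' z' = T.S b (xs (x * z' - z * x')) * T.phi a b (x + x') (z + z') := by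
  by_cases hd : x * z' - z * x' = 0
  swap
  · exact T.phi_add_ne hab hd
  rw [hd, xs_zero, map_one, one_mul]
  by_cases h : x = 0 ∧ z = 0
  · simp [h.1, h.2, phi_zero]
  obtain ⟨t, rfl, rfl⟩ : ∃ t, x' = t * x ∧ z' = t * z := by
    rcases ne_or_eq x 0 with hx | hx
    · exact ⟨x' / x, by field_simp, by field_simp; linear_combination hd⟩
    · have hz : z ≠ 0 := fun hz => h ⟨hx, hz⟩
      subst hx
      refine ⟨z' / z, ?_, by field_simp⟩
      simp [hz] at hd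
      simp [hd]
  obtain ⟨c0, c1⟩ := gv_col (show x ≠ 0 ∨ z ≠ 0 by tauto)
  have key : ∀ u : F, T.phi a b (u * x) (u * z) =
      T.S a (gv x z) * T.phi a b u 0 * (T.S a (gv x z))⁻¹ := fun u => by
    rw [T.phi_act hab, c0, c1]
    congr 1 <;> ring
  rw [show T.phi a b x z = T.phi a b (1 * x) (1 * z) by simp,
    show x + t * x = (1 + t) * x by ring, show z + t * z = (1 + t) * z by ring, key, key, key,
    ← T.line_add hab 1 t]
  group

theorem commute_xs_phi {a b : Fin m} (hab : a ≠ b) (c x z : F) :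
    Commute (T.S b (xs c)) (T.phi a b x z) :=
  T.commute_phi hab (fun g => T.commute_SS hab.symm _ g)
    (by rw [T.Y_comm hab]; exact T.commute_xs_Y hab.symm c) x z

theorem commute_S_phi {a b c : Fin m} (hab : a ≠ b) (hac : a ≠ c) (hbc : b ≠ c) (g : SL(2, F)) (x z : F) :
    Commute (T.S c g) (T.phi a b x z) :=
  T.commute_phi hab (fun _ => T.commute_SS hac.symm _ _) (T.commute_YS hab hac hbc g).symm x z

theorem commute_lines {a b c d : Fin m} (hab : a ≠ b) (hcd : c ≠ d) (hca : c ≠ a) (hcb : c ≠ b) (had : a ≠ d)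
    (h : Commute (T.Y a b) (T.Y c d)) (x x' : F) : Commute (T.phi a b x 0) (T.phi c d x' 0) := by
  rcases eq_or_ne x 0 with rfl | hx
  · rw [phi_zero]; exact Commute.one_left _
  rcases eq_or_ne x' 0 with rfl | hx'
  · rw [phi_zero]; exact Commute.one_right _
  have h1 := T.phi_line hab (Units.mk0 x hx)
  have h2 := T.phi_line hcd (Units.mk0 x' hx')
  rw [Units.val_mk0] at h1 h2
  set u := T.S a (ds (Units.mk0 x hx))
  set w := T.S c (ds (Units.mk0 x' hx'))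
  have hw : Commute w (T.Y a b) := (T.commute_YS hab hca.symm hcb.symm _).symm
  have hu : Commute u (T.Y c d) := (T.commute_YS hcd hca had.symm _).symm
  have huw : Commute u w := T.commute_SS hca.symm _ _
  have h3 := h.map (MulAut.conj (u * w)).toMonoidHom
  simp only [MulEquiv.coe_toMonoidHom, MulAut.conj_apply] at h3
  rw [h1, h2]
  have e1 : u * w * T.Y a b * (u * w)⁻¹ = u * T.Y a b * u⁻¹ := by
    calc _ = u * (w * T.Y a b * w⁻¹) * u⁻¹ := by group
      _ = _ := by rw [hw.mul_inv_cancel]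
  have e2 : u * w * T.Y c d * (u * w)⁻¹ = w * T.Y c d * w⁻¹ := by
    rw [huw.eq]
    calc _ = w * (u * T.Y c d * u⁻¹) * w⁻¹ := by group
      _ = _ := by rw [hu.mul_inv_cancel]
  rwa [e1, e2] at h3

theorem commute_line_adj {a b c : Fin m} (hab : a ≠ b) (hac : a ≠ c) (hbc : b ≠ c) (x x' : F) :
    Commute (T.phi a b x 0) (T.phi b c x' 0) := by
  rw [T.phi_swap_line hbc]
  refine T.commute_lines hab hbc.symm hac.symm hbc.symm hab ?_ x x'
  rw [← T.Y_comm hbc]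
  exact T.commute_Y1 hab hac hbc

theorem commute_line_far {a b c d : Fin m} (hab : a ≠ b) (hac : a ≠ c) (had : a ≠ d) (hbc : b ≠ c) (hbd : b ≠ d)
    (hcd : c ≠ d) (x x' : F) : Commute (T.phi a b x 0) (T.phi c d x' 0) :=
  T.commute_lines hab hcd hac.symm hbc.symm had (T.commute_Y2 hab hac had hbc hbd hcd) x x'

end Sys

end Cfsg.Lib.Linear.ShortPres.SpN
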