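import Cfsg.Agent.Lib.Linear.ShortPres.SpN.Mat
import Cfsg.Agent.Lib.Linear.ShortPres.SpN.Sys

/-!
# The symplectic group satisfies the relations
-/

set_option autoImplicit false
set_option linter.unusedSectionVars false

namespace Cfsg.Lib.Linear.ShortPres.SpN

open Module
open scoped MatrixGroups
open Cfsg.Lib.Linear.Symp Cfsg.Lib.Recog.SpAmalgam

variable {F V : Type*} [Field F] [AddCommGroup V] [Module F V] [FiniteDimensional F V]
  {B : LinearMap.BilinForm F V} {m : ℕ} (Φ : Cfsg.Lib.Recog.SpAmalgam.Frame B m) (hA : B.IsAlt)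

include hA in
theorem kg_inv {a v : V} (h : B a v = 0) : (kg hA a v)⁻¹ = kg hA a (-v) :=
  inv_eq_of_mul_eq_one_right (by
    rw [kg_mul_kg hA h (by simp [h]), add_neg_cancel, kg_zero]
    simp [hA.self_eq_zero, tvG_zero])

include hA in
theorem kg_comm {a v c w : V} (hav : B a v = 0) (hcw : B c w = 0) (hac : B a c = 0) (haw : B a w = 0)
    (hvc : B v c = 0) (hvw : B v w = 0) : Commute (kg hA a v) (kg hA c w) := iso_ext fun x => by
  have hca : B c a = 0 := by rw [skew hA a c, hac, neg_zero]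
  have hwa : B w a = 0 := by rw [skew hA a w, haw, neg_zero]
  have hcv : B c v = 0 := by rw [skew hA v c, hvc, neg_zero]
  have hwv : B w v = 0 := by rw [skew hA v w, hvw, neg_zero]
  rw [mul_apply, mul_apply, kg_apply hA hav, kg_apply hA hcw, kg_apply hA hcw, kg_apply hA hav]
  simp only [map_add, map_smul, LinearMap.add_apply, LinearMap.smul_apply, smul_eq_mul, hac, haw, hvc, hvw,
    hca, hwa, hcv, hwv, mul_zero, add_zero]
  abel

variable (Q : Idx m) (ζ : Fˣ) (hgen : ∀ x : Fˣ, ∃ i : ℕ, x = ζ ^ i)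

/-- The permutations inside the symplectic group. -/
noncomputable def permA : alternatingGroup (Fin m) →* iso B := (perm Φ hA).comp (alternatingGroup (Fin m)).subtype

/-- The short root element of the marked pair. -/
def yM : iso B := kg hA (Φ.e Q.i0) (Φ.e Q.i1)

theorem fS_model (a : Fin m) (g : SL(2, F)) : fS Q (psi Φ hA Q.i0) (permA Φ hA) a g = psi Φ hA a g := by
  show perm Φ hA _ * _ * (perm Φ hA _)⁻¹ = _
  rw [perm_conj_psi]
  exact congrArg (fun c => psi Φ hA c g) (piA_apply Q a)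

theorem fY_model {a b : Fin m} (hab : a ≠ b) :
    fY Q (permA Φ hA) (yM Φ hA Q) a b = kg hA (Φ.e a) (Φ.e b) := by
  show perm Φ hA _ * kg hA _ _ * (perm Φ hA _)⁻¹ = _
  rw [perm_conj_kg]
  rcases piY_apply Q hab with ⟨e0, e1⟩ | ⟨e0, e1⟩
  · exact congrArg₂ (fun c d => kg hA (Φ.e c) (Φ.e d)) e0 e1
  · rw [kg_symm hA (Φ.ee _ _)]
    exact congrArg₂ (fun c d => kg hA (Φ.e c) (Φ.e d)) e1 e0

theorem fPhi_model {a b : Fin m} (hab : a ≠ b) (g : SL(2, F)) :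
    fPhi Q (psi Φ hA Q.i0) (permA Φ hA) (yM Φ hA Q) a b g =
      kg hA (g.1 0 0 • Φ.e a + g.1 1 0 • Φ.f a) (Φ.e b) := by
  rw [fPhi, fS_model, fY_model Φ hA Q hab, psi_conj_kg_self Φ hA hab]

theorem psi_fix_kg {a c d : Fin m} (hc : c ≠ a) (hd : d ≠ a) (g : SL(2, F)) :
    Commute (psi Φ hA a g) (kg hA (Φ.e c) (Φ.e d)) := by
  refine mul_inv_eq_iff_eq_mul.1 ?_
  rw [kg_conj, psi_e_ne Φ hA hc, psi_e_ne Φ hA hd]

theorem psi_xs_fix (a : Fin m) (c : F) : (psi Φ hA a (xs c) : V ≃ₗ[F] V) (Φ.e a) = Φ.e a := by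
  rw [psi_e]; simp [xs_coe]

theorem r5_model {a b : Fin m} (hab : a ≠ b) (s : Fˣ) :
    fY Q (permA Φ hA) (yM Φ hA Q) a b * fPhi Q (psi Φ hA Q.i0) (permA Φ hA) (yM Φ hA Q) a b (gsf s) =
      fS Q (psi Φ hA Q.i0) (permA Φ hA) b (xs (s : F)) *
        fPhi Q (psi Φ hA Q.i0) (permA Φ hA) (yM Φ hA Q) a b (gef (s : F)) := by
  rw [fY_model Φ hA Q hab, fPhi_model Φ hA Q hab, fPhi_model Φ hA Q hab, fS_model, psi_xs]
  rw [show (gsf s).1 0 0 = 0 from rfl, show (gsf s).1 1 0 = (s : F) from rfl,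
    show (gef (s : F)).1 0 0 = 1 from rfl, show (gef (s : F)).1 1 0 = (s : F) from rfl, zero_smul, zero_add,
    one_smul]
  have h1 : B ((s : F) • Φ.f a) (Φ.e b) = 0 := by simp [Φ.fe_ne hA hab]
  have h2 : B (Φ.e a + (s : F) • Φ.f a) (Φ.e b) = 0 := by simp [Φ.ee, Φ.fe_ne hA hab]
  have h3 : B (Φ.e b) ((s : F) • Φ.f a) = 0 := by simp [Φ.ef_ne hab.symm]
  rw [kg_symm hA (Φ.ee a b), kg_symm hA h1, kg_symm hA h2, kg_mul_kg hA (Φ.ee b a) h3]
  simp [Φ.fe_self hA]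

/-- The model. -/
noncomputable def model : Sys Q ζ (iso B) where
  hgen := hgen
  A := psi Φ hA Q.i0
  Bp := permA Φ hA
  y := yM Φ hA Q
  ypow := by
    rw [yM, kg_pow hA _ _ (Φ.ee _ _), ringChar.Nat.cast_ringChar, zero_smul, kg_zero]
  fixA π h g := by
    refine mul_inv_eq_iff_eq_mul.1 ?_
    show perm Φ hA π.1 * _ * (perm Φ hA π.1)⁻¹ = _
    rw [perm_conj_psi, h]
  fixY π h := by
    refine mul_inv_eq_iff_eq_mul.1 ?_
    show perm Φ hA π.1 * kg hA _ _ * (perm Φ hA π.1)⁻¹ = _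
    rw [perm_conj_kg]
    rcases h with ⟨e0, e1⟩ | ⟨e0, e1⟩ <;> rw [e0, e1]
    · rfl
    · rw [kg_symm hA (Φ.ee _ _)]; rfl
  comm01 g h := by
    rw [fS_model]
    exact Φ.ss_ss_comm hA Q.h01 (psi_mem_ss Φ hA _ g) (psi_mem_ss Φ hA _ h)
  tor r := by
    rw [fS_model, ← map_inv]
    refine mul_inv_eq_iff_eq_mul.1 ?_
    rw [yM, kg_conj, mul_apply, mul_apply, psi_e_ne Φ hA Q.h01, psi_e, psi_e, map_add, map_smul,
      map_smul, psi_e_ne Φ hA Q.h01.symm, psi_f_ne Φ hA Q.h01.symm, ← ds_inv]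
    have hr : (r : F) ≠ 0 := r.ne_zero
    simp only [ds_coe, Matrix.of_apply, Matrix.cons_val', Matrix.cons_val_zero, Matrix.cons_val_one,
      Matrix.empty_val', Matrix.cons_val_fin_one, zero_smul, add_zero]
    rw [kg_smul_left hA (by simp [Φ.ee]), smul_smul, Units.val_inv_eq_inv_val, mul_inv_cancel₀ hr, one_smul]
  uni0 := by
    refine mul_inv_eq_iff_eq_mul.1 ?_
    rw [yM, kg_conj, psi_xs_fix, psi_e_ne Φ hA Q.h01.symm]
  uni1 := by
    rw [fS_model]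
    refine mul_inv_eq_iff_eq_mul.1 ?_
    rw [yM, kg_conj, psi_xs_fix, psi_e_ne Φ hA Q.h01]
  ys2 g := by
    rw [fS_model]
    exact (psi_fix_kg Φ hA Q.h02 Q.h12 g).symm
  yy1 := by
    rw [fY_model Φ hA Q Q.h12]
    exact kg_comm hA (Φ.ee _ _) (Φ.ee _ _) (Φ.ee _ _) (Φ.ee _ _) (Φ.ee _ _) (Φ.ee _ _)
  yy2 h := by
    rw [fY_model Φ hA Q (Q.h3 h).2.2]
    exact kg_comm hA (Φ.ee _ _) (Φ.ee _ _) (Φ.ee _ _) (Φ.ee _ _) (Φ.ee _ _) (Φ.ee _ _)
  r5a s _ := r5_model Φ hA Q Q.h01 s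
  r5b s _ := r5_model Φ hA Q Q.h01.symm s

theorem model_S (a : Fin m) (g : SL(2, F)) : (model Φ hA Q ζ hgen).S a g = psi Φ hA a g := fS_model Φ hA Q a g

theorem model_Y {a b : Fin m} (hab : a ≠ b) : (model Φ hA Q ζ hgen).Y a b = kg hA (Φ.e a) (Φ.e b) :=
  fY_model Φ hA Q hab

theorem model_phi [Fintype F] {a b : Fin m} (hab : a ≠ b) (x z : F) :
    (model Φ hA Q ζ hgen).phi a b x z = kg hA (x • Φ.e a + z • Φ.f a) (Φ.e b) := by
  by_cases h : x = 0 ∧ z = 0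
  · rw [h.1, h.2, Sys.phi_zero, zero_smul, zero_smul, add_zero, kg_symm hA (by simp), kg_zero]
  · obtain ⟨c0, c1⟩ := Sys.gv_col (show x ≠ 0 ∨ z ≠ 0 by tauto)
    rw [Sys.phi, if_neg h, model_S, model_Y Φ hA Q ζ hgen hab, psi_conj_kg_self Φ hA hab, c0, c1]

/-- A transposition of two pairs as a word. -/
theorem perm_swap {a b : Fin m} (hab : a ≠ b) : perm Φ hA (Equiv.swap a b) = psi Φ hA a (ds (-1 : Fˣ)) *
    (kg hA (Φ.f a) (Φ.e b) * (kg hA (Φ.f b) (Φ.e a))⁻¹ * kg hA (Φ.f a) (Φ.e b)) := by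
  have h1 : B (Φ.f a) (Φ.e b) = 0 := Φ.fe_ne hA hab
  have h2 : B (Φ.f b) (Φ.e a) = 0 := Φ.fe_ne hA hab.symm
  rw [kg_inv hA h2]
  have h3 : B (Φ.f b) (-Φ.e a) = 0 := by simp [h2]
  refine iso_ext_frame Φ hA fun l => ?_
  rw [perm_e, perm_f]
  simp only [mul_apply, kg_apply hA h1, kg_apply hA h3, map_add, map_smul, map_neg, LinearMap.add_apply,
    LinearMap.smul_apply, LinearMap.neg_apply, smul_eq_mul]
  rcases eq_or_ne l a with rfl | hla
  · constructor <;>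
      simp [Equiv.swap_apply_left, Φ.ee, Φ.ff, Φ.ef_self, Φ.fe_self hA, Φ.ef_ne hab, Φ.ef_ne hab.symm, h1, h2,
        psi_e, psi_f, psi_e_ne Φ hA hab.symm, psi_f_ne Φ hA hab.symm, ds_coe] <;> module
  rcases eq_or_ne l b with rfl | hlb
  · constructor <;>
      simp [Equiv.swap_apply_right, Φ.ee, Φ.ff, Φ.ef_self, Φ.fe_self hA, Φ.ef_ne hab, Φ.ef_ne hab.symm, h1, h2,
        psi_e, psi_f, psi_e_ne Φ hA hab.symm, psi_f_ne Φ hA hab.symm, ds_coe] <;> module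
  · constructor <;>
      simp [Equiv.swap_apply_of_ne_of_ne hla hlb, Φ.ee, Φ.ff, Φ.ef_ne hla, Φ.ef_ne hlb, Φ.fe_ne hA hla,
        Φ.fe_ne hA hlb, psi_e_ne Φ hA hla, psi_f_ne Φ hA hla]

end Cfsg.Lib.Linear.ShortPres.SpN
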