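import Cfsg.Agent.Lib.Linear.ShortPres.SpN.Data
import Cfsg.Agent.Lib.Linear.ShortPres.Bdd

/-!
# Twenty-five linking relations
-/

set_option autoImplicit false
set_option linter.unusedSectionVars false

namespace Cfsg.Lib.Linear.ShortPres

/-- A free product of two presented groups. -/
theorem BddG.coprod {C₁ C₂ : Type*} [Group C₁] [Group C₂] {k₁ k₂ r₁ r₂ : ℕ} (h₁ : BddG C₁ k₁ r₁)
    (h₂ : BddG C₂ k₂ r₂) : BddG (Monoid.Coprod C₁ C₂) (k₁ + k₂) (r₁ + r₂) := by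
  classical
  obtain ⟨R₁, hR₁, ⟨e₁⟩⟩ := h₁
  obtain ⟨R₂, hR₂, ⟨e₂⟩⟩ := h₂
  let J₁ : FreeGroup (Fin k₁) →* FreeGroup (Fin (k₁ + k₂)) := FreeGroup.map (Fin.castAdd k₂)
  let J₂ : FreeGroup (Fin k₂) →* FreeGroup (Fin (k₁ + k₂)) := FreeGroup.map (Fin.natAdd k₁)
  set R := R₁.image J₁ ∪ R₂.image J₂ with hR
  let v : Fin (k₁ + k₂) → Monoid.Coprod C₁ C₂ :=
    Fin.append (fun i => Monoid.Coprod.inl (e₁ (PresentedGroup.of i)))
      (fun i => Monoid.Coprod.inr (e₂ (PresentedGroup.of i)))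
  have hv₁ : (FreeGroup.lift v).comp J₁ =
      ((Monoid.Coprod.inl (N := C₂)).comp e₁.toMonoidHom).comp (PresentedGroup.mk _) :=
    FreeGroup.ext_hom _ _ fun i => by simp [J₁, v, PresentedGroup.of]
  have hv₂ : (FreeGroup.lift v).comp J₂ =
      ((Monoid.Coprod.inr (M := C₁)).comp e₂.toMonoidHom).comp (PresentedGroup.mk _) :=
    FreeGroup.ext_hom _ _ fun i => by simp [J₂, v, PresentedGroup.of]
  have hv : ∀ r ∈ (↑R : Set (FreeGroup (Fin (k₁ + k₂)))), FreeGroup.lift v r = 1 := by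
    intro r hr
    simp only [hR, Finset.coe_union, Finset.coe_image, Set.mem_union, Set.mem_image, Finset.mem_coe] at hr
    rcases hr with ⟨x, hx, rfl⟩ | ⟨x, hx, rfl⟩
    · rw [← MonoidHom.comp_apply, hv₁, MonoidHom.comp_apply, PresentedGroup.one_of_mem (Finset.mem_coe.2 hx),
        map_one]
    · rw [← MonoidHom.comp_apply, hv₂, MonoidHom.comp_apply, PresentedGroup.one_of_mem (Finset.mem_coe.2 hx),
        map_one]
  let q := PresentedGroup.mk (↑R : Set (FreeGroup (Fin (k₁ + k₂))))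
  have hq₁ : ∀ x ∈ (↑R₁ : Set (FreeGroup (Fin k₁))),
      FreeGroup.lift (fun i => PresentedGroup.of (rels := (↑R : Set _)) (Fin.castAdd k₂ i)) x = 1 := by
    intro x hx
    have e : FreeGroup.lift (fun i => PresentedGroup.of (rels := (↑R : Set _)) (Fin.castAdd k₂ i)) = q.comp J₁ :=
      FreeGroup.ext_hom _ _ fun i => by simp [J₁, q, PresentedGroup.of]
    rw [e, MonoidHom.comp_apply]
    exact PresentedGroup.one_of_mem (Finset.mem_coe.2 (Finset.mem_union_left _ (Finset.mem_image_of_mem _ hx)))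
  have hq₂ : ∀ x ∈ (↑R₂ : Set (FreeGroup (Fin k₂))),
      FreeGroup.lift (fun i => PresentedGroup.of (rels := (↑R : Set _)) (Fin.natAdd k₁ i)) x = 1 := by
    intro x hx
    have e : FreeGroup.lift (fun i => PresentedGroup.of (rels := (↑R : Set _)) (Fin.natAdd k₁ i)) = q.comp J₂ :=
      FreeGroup.ext_hom _ _ fun i => by simp [J₂, q, PresentedGroup.of]
    rw [e, MonoidHom.comp_apply]
    exact PresentedGroup.one_of_mem (Finset.mem_coe.2 (Finset.mem_union_right _ (Finset.mem_image_of_mem _ hx)))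
  let Ψ : PresentedGroup (↑R : Set (FreeGroup (Fin (k₁ + k₂)))) →* Monoid.Coprod C₁ C₂ := PresentedGroup.toGroup hv
  let Θ : Monoid.Coprod C₁ C₂ →* PresentedGroup (↑R : Set (FreeGroup (Fin (k₁ + k₂)))) :=
    Monoid.Coprod.lift ((PresentedGroup.toGroup hq₁).comp e₁.symm.toMonoidHom)
      ((PresentedGroup.toGroup hq₂).comp e₂.symm.toMonoidHom)
  refine ⟨R, (Finset.card_union_le _ _).trans
    (Nat.add_le_add (Finset.card_image_le.trans hR₁) (Finset.card_image_le.trans hR₂)),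
    ⟨MonoidHom.toMulEquiv Ψ Θ (PresentedGroup.ext fun i => ?_) (Monoid.Coprod.hom_ext ?_ ?_)⟩⟩
  · induction i using Fin.addCases with
    | left j => simp [Ψ, Θ, v]
    | right j => simp [Ψ, Θ, v]
  · have h : Ψ.comp (PresentedGroup.toGroup hq₁) = (Monoid.Coprod.inl (N := C₂)).comp e₁.toMonoidHom :=
      PresentedGroup.ext fun i => by simp [Ψ, v]
    refine MonoidHom.ext fun c => ?_
    have := DFunLike.congr_fun h (e₁.symm c)
    simpa [Θ] using this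
  · have h : Ψ.comp (PresentedGroup.toGroup hq₂) = (Monoid.Coprod.inr (M := C₁)).comp e₂.toMonoidHom :=
      PresentedGroup.ext fun i => by simp [Ψ, v]
    refine MonoidHom.ext fun c => ?_
    have := DFunLike.congr_fun h (e₂.symm c)
    simpa [Θ] using this

theorem Bdd.coprod {C₁ C₂ : Type*} [Group C₁] [Group C₂] {r₁ r₂ : ℕ} (h₁ : Bdd C₁ r₁) (h₂ : Bdd C₂ r₂) :
    Bdd (Monoid.Coprod C₁ C₂) (r₁ + r₂) := by
  obtain ⟨k₁, h₁⟩ := h₁
  obtain ⟨k₂, h₂⟩ := h₂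
  exact (BddG.coprod h₁ h₂).bdd

namespace SpN

open Equiv
open scoped MatrixGroups
open Cfsg.Lib.Linear.Symp Cfsg.Lib.Recog.SpAmalgam

variable {F : Type*} [Field F] {m : ℕ}

section Formulas

variable {G H : Type*} [Group G] [Group H] (Q : Idx m) (ζ : Fˣ) (A : SL(2, F) → G)
  (Bp : alternatingGroup (Fin m) → G) (y : G)

/-- The transposition word. -/
noncomputable def fTau (a b : Fin m) : G :=
  fS Q A Bp a (ds (-1 : Fˣ)) *
    (fPhi Q A Bp y a b (gsf 1) * (fPhi Q A Bp y b a (gsf 1))⁻¹ * fPhi Q A Bp y a b (gsf 1))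

/-- The triangle relation as a pair. -/
noncomputable def fTri (a b c : Fin m) : G × G :=
  (fY Q Bp y a b * ((fPhi Q A Bp y c b (gsf 1) * fPhi Q A Bp y b c (gsf 1)) * fY Q Bp y a b *
      (fPhi Q A Bp y c b (gsf 1) * fPhi Q A Bp y b c (gsf 1))⁻¹),
    fPhi Q A Bp y b c (gsf 1) * fY Q Bp y a b * (fPhi Q A Bp y b c (gsf 1))⁻¹)

/-- The marked three-cycle. -/
def c3 : alternatingGroup (Fin m) :=
  ⟨swap Q.i0 Q.i1 * swap Q.i1 Q.i2, Perm.mem_alternatingGroup.2 (by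
    rw [Perm.sign_mul, Perm.sign_swap Q.h01, Perm.sign_swap Q.h12]; rfl)⟩

open Classical in
/-- The linking relations. -/
noncomputable def rels (u : Fin 2 → SL(2, F)) (ps : Fin 2 → alternatingGroup (Fin m))
    (qs : Fin 3 → alternatingGroup (Fin m)) : List (G × G) :=
  [(Bp (ps 0) * A (u 0), A (u 0) * Bp (ps 0)),
   (Bp (ps 0) * A (u 1), A (u 1) * Bp (ps 0)),
   (Bp (ps 1) * A (u 0), A (u 0) * Bp (ps 1)),
   (Bp (ps 1) * A (u 1), A (u 1) * Bp (ps 1)),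
   (Bp (qs 0) * y, y * Bp (qs 0)),
   (Bp (qs 1) * y, y * Bp (qs 1)),
   (Bp (qs 2) * y, y * Bp (qs 2)),
   (A (u 0) * fS Q A Bp Q.i1 (u 0), fS Q A Bp Q.i1 (u 0) * A (u 0)),
   (A (u 0) * fS Q A Bp Q.i1 (u 1), fS Q A Bp Q.i1 (u 1) * A (u 0)),
   (A (u 1) * fS Q A Bp Q.i1 (u 0), fS Q A Bp Q.i1 (u 0) * A (u 1)),
   (A (u 1) * fS Q A Bp Q.i1 (u 1), fS Q A Bp Q.i1 (u 1) * A (u 1)),
   (A (ds ζ) * (fS Q A Bp Q.i1 (ds ζ))⁻¹ * y, y * (A (ds ζ) * (fS Q A Bp Q.i1 (ds ζ))⁻¹)),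
   (A (xs 1) * y, y * A (xs 1)),
   (fS Q A Bp Q.i1 (xs 1) * y, y * fS Q A Bp Q.i1 (xs 1)),
   (y * fS Q A Bp Q.i2 (u 0), fS Q A Bp Q.i2 (u 0) * y),
   (y * fS Q A Bp Q.i2 (u 1), fS Q A Bp Q.i2 (u 1) * y),
   (y * fY Q Bp y Q.i1 Q.i2, fY Q Bp y Q.i1 Q.i2 * y),
   (if 4 ≤ m then (y * fY Q Bp y Q.i2 Q.i3, fY Q Bp y Q.i2 Q.i3 * y) else (1, 1)),
   (fY Q Bp y Q.i0 Q.i1 * fPhi Q A Bp y Q.i0 Q.i1 (gsf 1),
     fS Q A Bp Q.i1 (xs ((1 : Fˣ) : F)) * fPhi Q A Bp y Q.i0 Q.i1 (gef ((1 : Fˣ) : F))),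
   (fY Q Bp y Q.i0 Q.i1 * fPhi Q A Bp y Q.i0 Q.i1 (gsf ζ),
     fS Q A Bp Q.i1 (xs (ζ : F)) * fPhi Q A Bp y Q.i0 Q.i1 (gef (ζ : F))),
   (fY Q Bp y Q.i1 Q.i0 * fPhi Q A Bp y Q.i1 Q.i0 (gsf 1),
     fS Q A Bp Q.i0 (xs ((1 : Fˣ) : F)) * fPhi Q A Bp y Q.i1 Q.i0 (gef ((1 : Fˣ) : F))),
   (fY Q Bp y Q.i1 Q.i0 * fPhi Q A Bp y Q.i1 Q.i0 (gsf ζ),
     fS Q A Bp Q.i0 (xs (ζ : F)) * fPhi Q A Bp y Q.i1 Q.i0 (gef (ζ : F))),
   (Bp (c3 Q), fTau Q A Bp y Q.i0 Q.i1 * fTau Q A Bp y Q.i1 Q.i2),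
   (if ∃ a : F, a ≠ 0 ∧ a ≠ 1 then (1, 1) else fTri Q A Bp y Q.i0 Q.i1 Q.i2),
   (if ∃ a : F, a ≠ 0 ∧ a ≠ 1 then (1, 1) else fTri Q A Bp y Q.i2 Q.i1 Q.i0)]

theorem map_rels (f : G →* H) (u : Fin 2 → SL(2, F)) (ps : Fin 2 → alternatingGroup (Fin m))
    (qs : Fin 3 → alternatingGroup (Fin m)) :
    (rels Q ζ A Bp y u ps qs).map (fun e => (f e.1, f e.2)) =
      rels Q ζ (fun g => f (A g)) (fun g => f (Bp g)) (f y) u ps qs := by
  simp only [rels, List.map_cons, List.map_nil, apply_ite Prod.fst, apply_ite Prod.snd, apply_ite f]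
  split_ifs <;> simp [fTri, fTau, fPhi, fY, fS]

end Formulas

section Derive

variable {Q : Idx m} {ζ : Fˣ} {P : Type*} [Group P] [Fintype F]

theorem Sys.phi_gsf (T : Sys Q ζ P) {a b : Fin m} (hab : a ≠ b) :
    fPhi Q T.A T.Bp T.y a b (gsf 1) = T.phi a b 0 1 := by
  have h := T.phi_eq hab (gsf 1)
  rw [show (gsf (1 : Fˣ)).1 0 0 = (0 : F) from rfl,
    show (gsf (1 : Fˣ)).1 1 0 = ((1 : Fˣ) : F) from rfl, Units.val_one] at h
  rw [h]
  rfl

theorem closure_pair_of (u : Fin 2 → SL(2, F)) (hu : Subgroup.closure (Set.range u) = ⊤) {S : Subgroup SL(2, F)}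
    (h0 : u 0 ∈ S) (h1 : u 1 ∈ S) (g : SL(2, F)) : g ∈ S := by
  refine (?_ : Subgroup.closure (Set.range u) ≤ S) (hu ▸ Subgroup.mem_top g)
  rw [Subgroup.closure_le]
  rintro _ ⟨k, rfl⟩
  fin_cases k
  exacts [h0, h1]

theorem fixA_of_gens (u : Fin 2 → SL(2, F)) (hu : Subgroup.closure (Set.range u) = ⊤)
    (ps : Fin 2 → alternatingGroup (Fin m))
    (hps : ∀ π : alternatingGroup (Fin m), π.1 Q.i0 = Q.i0 → π ∈ Subgroup.closure (Set.range ps))
    (A : SL(2, F) →* P) (Bp : alternatingGroup (Fin m) →* P)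
    (a00 : Bp (ps 0) * A (u 0) = A (u 0) * Bp (ps 0)) (a01 : Bp (ps 0) * A (u 1) = A (u 1) * Bp (ps 0))
    (a10 : Bp (ps 1) * A (u 0) = A (u 0) * Bp (ps 1)) (a11 : Bp (ps 1) * A (u 1) = A (u 1) * Bp (ps 1)) :
    ∀ π : alternatingGroup (Fin m), π.1 Q.i0 = Q.i0 → ∀ g, Commute (Bp π) (A g) := by
  have hk : ∀ k g, Commute (Bp (ps k)) (A g) := fun k g => by
    refine (Subgroup.mem_centralizer_iff.1
      (closure_pair_of u hu (S := (Subgroup.centralizer ({Bp (ps k)} : Set P)).comap A) ?_ ?_ g) _ rfl)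
    · refine Subgroup.mem_centralizer_iff.2 ?_
      rintro _ rfl
      fin_cases k
      exacts [a00, a10]
    · refine Subgroup.mem_centralizer_iff.2 ?_
      rintro _ rfl
      fin_cases k
      exacts [a01, a11]
  intro π hπ g
  have : π ∈ (Subgroup.centralizer ({A g} : Set P)).comap Bp := by
    refine (?_ : Subgroup.closure (Set.range ps) ≤ _) (hps π hπ)
    rw [Subgroup.closure_le]
    rintro _ ⟨k, rfl⟩
    refine Subgroup.mem_centralizer_iff.2 ?_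
    rintro _ rfl
    exact (hk k g).eq.symm
  exact (Subgroup.mem_centralizer_iff.1 this _ rfl).symm

omit [Fintype F] in
theorem fixY_of_gens (qs : Fin 3 → alternatingGroup (Fin m))
    (hqs : ∀ π : alternatingGroup (Fin m),
      ((π.1 Q.i0 = Q.i0 ∧ π.1 Q.i1 = Q.i1) ∨ (π.1 Q.i0 = Q.i1 ∧ π.1 Q.i1 = Q.i0)) →
        π ∈ Subgroup.closure (Set.range qs))
    (Bp : alternatingGroup (Fin m) →* P) (y : P) (q0 : Bp (qs 0) * y = y * Bp (qs 0))
    (q1 : Bp (qs 1) * y = y * Bp (qs 1)) (q2 : Bp (qs 2) * y = y * Bp (qs 2)) :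
    ∀ π : alternatingGroup (Fin m),
      ((π.1 Q.i0 = Q.i0 ∧ π.1 Q.i1 = Q.i1) ∨ (π.1 Q.i0 = Q.i1 ∧ π.1 Q.i1 = Q.i0)) → Commute (Bp π) y := by
  intro π hπ
  have : π ∈ (Subgroup.centralizer ({y} : Set P)).comap Bp := by
    refine (?_ : Subgroup.closure (Set.range qs) ≤ _) (hqs π hπ)
    rw [Subgroup.closure_le]
    rintro _ ⟨k, rfl⟩
    refine Subgroup.mem_centralizer_iff.2 ?_
    rintro _ rfl
    fin_cases k
    exacts [q0.symm, q1.symm, q2.symm]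
  exact (Subgroup.mem_centralizer_iff.1 this _ rfl).symm

/-- The relations give a system. -/
theorem exists_sys (hgen : ∀ x : Fˣ, ∃ i : ℕ, x = ζ ^ i) (u : Fin 2 → SL(2, F))
    (hu : Subgroup.closure (Set.range u) = ⊤) (ps : Fin 2 → alternatingGroup (Fin m))
    (hps : ∀ π : alternatingGroup (Fin m), π.1 Q.i0 = Q.i0 → π ∈ Subgroup.closure (Set.range ps))
    (qs : Fin 3 → alternatingGroup (Fin m))
    (hqs : ∀ π : alternatingGroup (Fin m),
      ((π.1 Q.i0 = Q.i0 ∧ π.1 Q.i1 = Q.i1) ∨ (π.1 Q.i0 = Q.i1 ∧ π.1 Q.i1 = Q.i0)) →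
        π ∈ Subgroup.closure (Set.range qs))
    (A : SL(2, F) →* P) (Bp : alternatingGroup (Fin m) →* P) (y : P) (hy : y ^ ringChar F = 1)
    (hr : ∀ e ∈ rels Q ζ A Bp y u ps qs, e.1 = e.2) :
    ∃ T : Sys Q ζ P, T.A = A ∧ T.Bp = Bp ∧ T.y = y ∧
      Bp (c3 Q) = fTau Q A Bp y Q.i0 Q.i1 * fTau Q A Bp y Q.i1 Q.i2 ∧
      ((∃ a : F, a ≠ 0 ∧ a ≠ 1) ∨
        ((2 : F) = 0 ∧ ∀ a b c, a ≠ b → a ≠ c → b ≠ c → T.Tri a b c)) := by
  classical
  simp only [rels, List.forall_mem_cons] at hr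
  obtain ⟨a00, a01, a10, a11, q0, q1, q2, k00, k01, k10, k11, t, e0, e1, g0, g1, h1, h2, fa1, faz, fb1, fbz, hc,
    hk0, hk1, -⟩ := hr
  let S1 : SL(2, F) →* P := (MulAut.conj (Bp (piA Q Q.i1))).toMonoidHom.comp A
  let S2 : SL(2, F) →* P := (MulAut.conj (Bp (piA Q Q.i2))).toMonoidHom.comp A
  have hfixA := fixA_of_gens u hu ps hps A Bp a00 a01 a10 a11
  have hfixY := fixY_of_gens qs hqs Bp y q0 q1 q2
  have hu' : Subgroup.closure ({u 0, u 1} : Set SL(2, F)) = ⊤ := eq_top_iff.2 fun g _ =>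
    closure_pair_of u hu (Subgroup.subset_closure (Or.inl rfl)) (Subgroup.subset_closure (Or.inr rfl)) g
  have hc01 : ∀ g h, Commute (A g) (S1 h) := SLN.commute_of_sets A S1 hu' hu' (by
    rintro x (rfl | rfl) z (rfl | rfl)
    exacts [k00, k01, k10, k11])
  have hys2 : ∀ g, Commute y (S2 g) := fun g =>
    (Subgroup.mem_centralizer_iff.1
      (closure_pair_of u hu (S := (Subgroup.centralizer ({y} : Set P)).comap S2)
        (Subgroup.mem_centralizer_iff.2 (by rintro _ rfl; exact g0))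
        (Subgroup.mem_centralizer_iff.2 (by rintro _ rfl; exact g1)) g) _ rfl)
  have htor : ∀ r : Fˣ, Commute (A (ds r) * (S1 (ds r))⁻¹) y := fun r => by
    obtain ⟨i, rfl⟩ := hgen r
    rw [ds_pow, map_pow, map_pow, ← inv_pow, ← ((hc01 _ _).inv_right).mul_pow]
    exact Commute.pow_left t i
  let T : Sys Q ζ P :=
    { hgen := hgen, A := A, Bp := Bp, y := y, ypow := hy, fixA := hfixA, fixY := hfixY, comm01 := hc01
      tor := htor, uni0 := e0, uni1 := e1, ys2 := hys2, yy1 := h1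
      yy2 := fun h => by rw [if_pos h] at h2; exact h2
      r5a := fun s hs => by rcases hs with rfl | rfl; exacts [fa1, faz]
      r5b := fun s hs => by rcases hs with rfl | rfl; exacts [fb1, fbz] }
  refine ⟨T, rfl, rfl, rfl, hc, ?_⟩
  by_cases hF : ∃ a : F, a ≠ 0 ∧ a ≠ 1
  · exact Or.inl hF
  rw [if_neg hF] at hk0 hk1
  have h2' : (2 : F) = 0 := by
    by_contra h2'
    refine hF ⟨-1, neg_ne_zero.2 one_ne_zero, fun e => h2' ?_⟩
    linear_combination -e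
  refine Or.inr ⟨h2', fun a b c hab hac hbc => T.tri_of_marked ?_ ?_ hab hac hbc⟩
  · unfold Sys.Tri
    rw [← T.phi_gsf Q.h12, ← T.phi_gsf Q.h12.symm]
    exact hk0
  · unfold Sys.Tri
    rw [← T.phi_gsf Q.h01, ← T.phi_gsf Q.h01.symm]
    exact hk1

theorem Sys.tau_conj (T : Sys Q ζ P) (π : alternatingGroup (Fin m)) {a b : Fin m} (hab : a ≠ b) :
    T.cB π (fTau Q T.A T.Bp T.y a b) = fTau Q T.A T.Bp T.y (π.1 a) (π.1 b) := by
  show T.cB π (T.S a _ * (T.S a _ * T.Y a b * (T.S a _)⁻¹ * (T.S b _ * T.Y b a * (T.S b _)⁻¹)⁻¹ *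
    (T.S a _ * T.Y a b * (T.S a _)⁻¹))) = _
  simp only [map_mul, map_inv, T.S_conj, T.Y_conj π hab, T.Y_conj π hab.symm]
  rfl

end Derive

/-- All even permutations are products of consecutive three-cycles. -/
theorem alt_eq_top_of_consecutive {n : ℕ} (N : Subgroup (Perm (Fin (n + 2))))
    (h : ∀ i j k : Fin (n + 2), (j : ℕ) = (i : ℕ) + 1 → (k : ℕ) = (j : ℕ) + 1 →
      swap i j * swap j k ∈ N)
    (σ : Perm (Fin (n + 2))) (hσ : Perm.sign σ = 1) (hN : ∀ x ∈ N, Perm.sign x = 1) : σ ∈ N := by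
  let τ : Fin (n + 1) → Perm (Fin (n + 2)) := fun i => swap i.castSucc i.succ
  have hτ2 : ∀ i, τ i * τ i = 1 := fun i => swap_mul_self _ _
  have hstep : ∀ i j : Fin (n + 1), (j : ℕ) = (i : ℕ) + 1 → τ i * τ j ∈ N := fun i j hij => by
    have hc : j.castSucc = i.succ := Fin.ext (by simp [hij])
    show swap i.castSucc i.succ * swap j.castSucc j.succ ∈ N
    rw [hc]
    exact h _ _ _ (by simp) (by simp [hij])
  have h0 : ∀ k (hk : k < n + 1), τ 0 * τ ⟨k, hk⟩ ∈ N := by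
    intro k
    induction k with
    | zero =>
      intro hk
      rw [show (⟨0, hk⟩ : Fin (n + 1)) = 0 from rfl, hτ2]
      exact one_mem _
    | succ k ih =>
      intro hk
      have := mul_mem (ih (by omega)) (hstep ⟨k, by omega⟩ ⟨k + 1, hk⟩ rfl)
      rwa [mul_assoc, ← mul_assoc (τ ⟨k, _⟩), hτ2, one_mul] at this
  have hall : ∀ s : Perm (Fin (n + 2)), s ∈ N ∨ s * τ 0 ∈ N := by
    intro s
    have hs : s ∈ Submonoid.closure (Set.range τ) := by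
      rw [show Set.range τ = Set.range fun i : Fin (n + 1) => swap i.castSucc i.succ from rfl,
        Perm.mclosure_swap_castSucc_succ]
      trivial
    induction hs using Submonoid.closure_induction_right with
    | one => exact Or.inl (one_mem _)
    | mul_right x _ z hz ih =>
      obtain ⟨j, rfl⟩ := hz
      have hj0 : τ j * τ 0 ∈ N := by
        have := inv_mem (h0 j.1 j.2)
        rwa [mul_inv_rev, swap_inv, swap_inv] at this
      rcases ih with hx | hx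
      · exact Or.inr (by rw [mul_assoc]; exact mul_mem hx hj0)
      · refine Or.inl ?_
        have := mul_mem hx (h0 j.1 j.2)
        rwa [mul_assoc, ← mul_assoc (τ 0), hτ2, one_mul] at this
  refine (hall σ).resolve_right fun hc => ?_
  have := hN _ hc
  rw [Perm.sign_mul, hσ, one_mul, Perm.sign_swap (Fin.castSucc_lt_succ.ne)] at this
  exact absurd this (by decide)

variable {V : Type*} [AddCommGroup V] [Module F V] [FiniteDimensional F V] [Fintype F]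
  {B : LinearMap.BilinForm F V} (Φ : Cfsg.Lib.Recog.SpAmalgam.Frame B m) (hA : B.IsAlt)
  {ζ : Fˣ}

include Φ hA in
/-- A group satisfying the relations is an image of the symplectic group. -/
theorem exists_surjective (hm : 3 ≤ m) (hgen : ∀ x : Fˣ, ∃ i : ℕ, x = ζ ^ i) (hB : B.Nondegenerate)
    {Q : Idx m} (hQ : (Q.i1 : ℕ) = (Q.i0 : ℕ) + 1) {G : Type*} [Group G] (T : Sys Q ζ G)
    (hc : T.Bp (c3 Q) = fTau Q T.A T.Bp T.y Q.i0 Q.i1 * fTau Q T.A T.Bp T.y Q.i1 Q.i2)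
    (hF : (∃ a : F, a ≠ 0 ∧ a ≠ 1) ∨ ((2 : F) = 0 ∧ ∀ a b c, a ≠ b → a ≠ c → b ≠ c → T.Tri a b c))
    (htop : Subgroup.closure (Set.range T.A ∪ Set.range T.Bp ∪ {T.y}) = ⊤) :
    ∃ φ : iso B →* G, Function.Surjective φ := by
  obtain ⟨φ, hφS, hφY⟩ := exists_hom_of_sys Φ hA hgen T hB (by omega) hF
  refine ⟨φ, MonoidHom.range_eq_top.1 ?_⟩
  have hS : ∀ a g, T.S a g ∈ φ.range := fun a g => ⟨_, hφS a g⟩
  have hY : ∀ a b : Fin m, ((b : ℕ) = (a : ℕ) + 1 ∨ (a : ℕ) = (b : ℕ) + 1) → T.Y a b ∈ φ.range := by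
    rintro a b (h | h)
    · exact ⟨_, hφY a b h⟩
    · rw [T.Y_comm (fun e => by subst e; omega)]; exact ⟨_, hφY b a h⟩
  have htau : ∀ a b : Fin m, ((b : ℕ) = (a : ℕ) + 1 ∨ (a : ℕ) = (b : ℕ) + 1) →
      fTau Q T.A T.Bp T.y a b ∈ φ.range := by
    intro a b h
    have m1 : fPhi Q T.A T.Bp T.y a b (gsf 1) ∈ φ.range :=
      mul_mem (mul_mem (hS a _) (hY a b h)) (inv_mem (hS a _))
    have m2 : fPhi Q T.A T.Bp T.y b a (gsf 1) ∈ φ.range :=
      mul_mem (mul_mem (hS b _) (hY b a h.symm)) (inv_mem (hS b _))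
    exact mul_mem (hS a _) (mul_mem (mul_mem m1 (inv_mem m2)) m1)
  have hN : ∀ π : alternatingGroup (Fin m), T.Bp π ∈ φ.range := by
    obtain ⟨n, hn⟩ : ∃ n, m = n + 2 := ⟨m - 2, by omega⟩
    subst hn
    intro π
    have key : π.1 ∈ (φ.range.comap T.Bp).map (alternatingGroup (Fin (n + 2))).subtype := by
      refine alt_eq_top_of_consecutive _ ?_ π.1 (Perm.mem_alternatingGroup.1 π.2) ?_
      · intro i j k hj hk
        have hij : i ≠ j := fun e => by subst e; omega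
        have hjk : j ≠ k := fun e => by subst e; omega
        have hik : i ≠ k := fun e => by subst e; omega
        obtain ⟨w, hw⟩ := exists_triple Q.h01 Q.h02 Q.h12 hij hik hjk
        have hval : (w * c3 Q * w⁻¹).1 = swap (w.1 Q.i0) (w.1 Q.i1) * swap (w.1 Q.i1) (w.1 Q.i2) := by
          show w.1 * (swap Q.i0 Q.i1 * swap Q.i1 Q.i2) * w.1⁻¹ = _
          rw [swap_apply_apply, swap_apply_apply]
          group
        have hBw : T.Bp (w * c3 Q * w⁻¹) = fTau Q T.A T.Bp T.y (w.1 Q.i0) (w.1 Q.i1) *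
            fTau Q T.A T.Bp T.y (w.1 Q.i1) (w.1 Q.i2) := by
          rw [← T.tau_conj w Q.h01, ← T.tau_conj w Q.h12, ← map_mul, ← hc, map_mul, map_mul, map_inv]
          rfl
        rcases hw with ⟨e0, e1, e2⟩ | ⟨e0, e1, e2⟩ <;> rw [e0, e1, e2] at hval hBw
        · exact ⟨w * c3 Q * w⁻¹, by
            show T.Bp _ ∈ φ.range
            rw [hBw]; exact mul_mem (htau _ _ (Or.inl hj)) (htau _ _ (Or.inl hk)), hval⟩
        · refine ⟨(w * c3 Q * w⁻¹)⁻¹, inv_mem (show w * c3 Q * w⁻¹ ∈ φ.range.comap T.Bp by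
            show T.Bp _ ∈ φ.range
            rw [hBw]; exact mul_mem (htau _ _ (Or.inr hk)) (htau _ _ (Or.inr hj))), ?_⟩
          show ((w * c3 Q * w⁻¹)⁻¹).1 = _
          rw [Subgroup.coe_inv, hval, mul_inv_rev, swap_inv, swap_inv, swap_comm j i, swap_comm k j]
      · rintro _ ⟨x, -, rfl⟩
        exact Perm.mem_alternatingGroup.1 x.2
    obtain ⟨π', hπ', e⟩ := key
    rw [← Subtype.ext e]
    exact hπ'
  rw [eq_top_iff, ← htop, Subgroup.closure_le]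
  rintro _ ((⟨g, rfl⟩ | ⟨π, rfl⟩) | rfl)
  · rw [← T.S_zero]; exact hS _ _
  · exact hN π
  · rw [← T.Y_zero]; exact hY _ _ (Or.inl hQ)

theorem fTau_model (hgen : ∀ x : Fˣ, ∃ i : ℕ, x = ζ ^ i) (Q : Idx m) {a b : Fin m} (hab : a ≠ b) :
    fTau Q (model Φ hA Q ζ hgen).A (model Φ hA Q ζ hgen).Bp (model Φ hA Q ζ hgen).y a b =
      perm Φ hA (swap a b) := by
  show fS Q (psi Φ hA Q.i0) (permA Φ hA) a (ds (-1 : Fˣ)) *
    (fPhi Q (psi Φ hA Q.i0) (permA Φ hA) (yM Φ hA Q) a b (gsf 1) *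
      (fPhi Q (psi Φ hA Q.i0) (permA Φ hA) (yM Φ hA Q) b a (gsf 1))⁻¹ *
      fPhi Q (psi Φ hA Q.i0) (permA Φ hA) (yM Φ hA Q) a b (gsf 1)) = _
  rw [fS_model, fPhi_model Φ hA Q hab, fPhi_model Φ hA Q hab.symm, perm_swap Φ hA hab]
  simp [show (gsf (1 : Fˣ)).1 0 0 = (0 : F) from rfl, show (gsf (1 : Fˣ)).1 1 0 = ((1 : Fˣ) : F) from rfl]

/-- The model satisfies the relations. -/
theorem rels_model (hgen : ∀ x : Fˣ, ∃ i : ℕ, x = ζ ^ i) (Q : Idx m) (u : Fin 2 → SL(2, F))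
    (ps : Fin 2 → alternatingGroup (Fin m)) (hps : ∀ k, (ps k).1 Q.i0 = Q.i0)
    (qs : Fin 3 → alternatingGroup (Fin m))
    (hqs : ∀ k, ((qs k).1 Q.i0 = Q.i0 ∧ (qs k).1 Q.i1 = Q.i1) ∨ ((qs k).1 Q.i0 = Q.i1 ∧ (qs k).1 Q.i1 = Q.i0)) :
    ∀ e ∈ rels Q ζ (model Φ hA Q ζ hgen).A (model Φ hA Q ζ hgen).Bp (model Φ hA Q ζ hgen).y u ps qs,
      e.1 = e.2 := by
  classical
  set M := model Φ hA Q ζ hgen with hM
  simp only [rels, List.forall_mem_cons]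
  refine ⟨M.fixA _ (hps 0) _, M.fixA _ (hps 0) _, M.fixA _ (hps 1) _, M.fixA _ (hps 1) _, M.fixY _ (hqs 0),
    M.fixY _ (hqs 1), M.fixY _ (hqs 2), M.comm01 _ _, M.comm01 _ _, M.comm01 _ _, M.comm01 _ _, M.tor ζ, M.uni0,
    M.uni1, M.ys2 _, M.ys2 _, M.yy1, ?_, M.r5a 1 (Or.inl rfl), M.r5a ζ (Or.inr rfl), M.r5b 1 (Or.inl rfl),
    M.r5b ζ (Or.inr rfl), ?_, ?_, ?_, by simp⟩
  · split_ifs with h
    · exact M.yy2 h
    · rfl
  · show M.Bp (c3 Q) = fTau Q M.A M.Bp M.y Q.i0 Q.i1 * fTau Q M.A M.Bp M.y Q.i1 Q.i2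
    rw [hM, fTau_model Φ hA hgen Q Q.h01, fTau_model Φ hA hgen Q Q.h12, ← map_mul]
    rfl
  · split_ifs with h
    · rfl
    · have h2 : (2 : F) = 0 := by
        by_contra h2
        refine h ⟨-1, neg_ne_zero.2 one_ne_zero, fun e => h2 ?_⟩
        linear_combination -e
      have ht := tri_model (Q := Q) Φ hA hgen h2 Q.h01 Q.h02 Q.h12
      unfold Sys.Tri at ht
      rw [← Sys.phi_gsf _ Q.h12, ← Sys.phi_gsf _ Q.h12.symm] at ht
      exact ht
  · split_ifs with h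
    · rfl
    · have h2 : (2 : F) = 0 := by
        by_contra h2
        refine h ⟨-1, neg_ne_zero.2 one_ne_zero, fun e => h2 ?_⟩
        linear_combination -e
      have ht := tri_model (Q := Q) Φ hA hgen h2 Q.h12.symm Q.h02.symm Q.h01.symm
      unfold Sys.Tri at ht
      rw [← Sys.phi_gsf _ Q.h01, ← Sys.phi_gsf _ Q.h01.symm] at ht
      exact ht

end SpN

end Cfsg.Lib.Linear.ShortPres
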